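import Cfsg.Agent.Lib.LocalEven.PairUp.Over
import Cfsg.Agent.Lib.LocalEven.RankOne.CentrallyLargeFinal

/-!
If no module leaves a core, the subgroup generated by all of them is centrally large in its centraliser.
-/

set_option autoImplicit false

namespace CfsgLib.LocalEven.PairUp

open Cfsg Subgroup
open CfsgLib.LocalEven

theorem measure_le_max {B : Type*} [Group B] [Finite B] (R : Subgroup B) :
    Nat.card ↥R * Nat.card ↥(center ↥R) ≤ maxCentralProduct B :=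
  le_csSup (Set.finite_range fun R : Subgroup B => Nat.card ↥R * Nat.card ↥(center ↥R)).bddAbove ⟨R, rfl⟩

theorem maxCentralProduct_le_of_injective {A B : Type*} [Group A] [Group B] [Finite B] {f : A →* B}
    (hf : Function.Injective f) : maxCentralProduct A ≤ maxCentralProduct B := by
  refine csSup_le ⟨_, ⊥, rfl⟩ ?_
  rintro k ⟨R, rfl⟩
  let e : ↥R ≃* ↥(R.map f) := R.equivMapOfInjective f hf
  rw [Nat.card_congr e.toEquiv, Nat.card_congr (Subgroup.centerCongr e).toEquiv]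
  exact measure_le_max _

variable {𝕏 : Type*} [Group 𝕏] {ν : Type*} {p : ℕ}

/-- `W` lies in `P`, and its order times that of its centraliser there is at least `M`. -/
def Lg (M : ℕ) (W P : Subgroup 𝕏) : Prop :=
  W ≤ P ∧ M ≤ Nat.card ↥W * Nat.card ↥(P ⊓ centralizer (W : Set 𝕏) : Subgroup 𝕏)

theorem cdMeasure_subgroupOf {W P : Subgroup 𝕏} (h : W ≤ P) :
    cdMeasure (W.subgroupOf P) = Nat.card ↥W * Nat.card ↥(P ⊓ centralizer (W : Set 𝕏) : Subgroup 𝕏) := by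
  have e : centralizer (W.subgroupOf P : Set ↥P) = (P ⊓ centralizer (W : Set 𝕏)).subgroupOf P := by
    ext x
    simp only [mem_subgroupOf, mem_inf, mem_centralizer_iff, SetLike.mem_coe, x.2, true_and]
    exact ⟨fun hx w hw => congrArg Subtype.val (hx ⟨w, h hw⟩ hw), fun hx w hw => Subtype.ext (hx _ hw)⟩
  rw [cdMeasure, e, Nat.card_congr (subgroupOfEquivOfLe h).toEquiv,
    Nat.card_congr (subgroupOfEquivOfLe inf_le_left).toEquiv]

theorem Lg.sup {M : ℕ} {W W' P : Subgroup 𝕏} [Finite ↥P] (hP : maxCentralProduct ↥P ≤ M) (h : Lg M W P)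
    (h' : Lg M W' P) : Lg M (W ⊔ W') P := by
  rw [maxCentralProduct_eq] at hP
  have hl : ∀ V, Lg M V P → IsCentralizerLarge (V.subgroupOf P) := fun V hV =>
    isCentralizerLarge_of_le ((hP.trans hV.2).trans (cdMeasure_subgroupOf hV.1).ge)
  have h1 : cdMeasure (W.subgroupOf P ⊔ W'.subgroupOf P) = maxCentralizerProduct ↥P :=
    ((hl W h).lattice (hl W' h')).1
  rw [← subgroupOf_sup h.1 h'.1, cdMeasure_subgroupOf (sup_le h.1 h'.1)] at h1
  refine ⟨sup_le h.1 h'.1, ?_⟩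
  rw [h1]
  exact (h.2.trans (cdMeasure_subgroupOf h.1).ge).trans (cdMeasure_le _)

/-- The modules of the vertices connected to `s`. -/
def Amal.compMd (Γ : Amal 𝕏 ν p) (s : ν) : Subgroup 𝕏 := ⨆ u : {u : ν // ∃ N, Γ.Near N s u}, Γ.md u.1

variable {Γ : Amal 𝕏 ν p}

theorem Amal.md_le_compMd {s u : ν} {N : ℕ} (h : Γ.Near N s u) : Γ.md u ≤ Γ.compMd s :=
  le_iSup_of_le ⟨u, N, h⟩ le_rfl

theorem Amal.compMd_le_core (hbad : ¬ Γ.Bad) {s w : ν} {N : ℕ} (h : Γ.Near N s w) :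
    Γ.compMd s ≤ Γ.core w := by
  refine iSup_le fun u => ?_
  obtain ⟨K, hK⟩ := u.2
  by_contra hc
  exact hbad ⟨_, u.1, w, Γ.near_trans (Γ.near_symm hK) h, hc⟩

theorem Amal.compMd_comm (hbad : ¬ Γ.Bad) (s : ν) :
    Γ.compMd s ≤ centralizer (Γ.compMd s : Set 𝕏) := by
  refine iSup_le fun u x hx => mem_centralizer_iff.2 fun y hy => ?_
  obtain ⟨K, hK⟩ := u.2
  exact Γ.md_comm u.1 y (Γ.compMd_le_core hbad hK hy) x hx

theorem Amal.lg_compMd (hbad : ¬ Γ.Bad) {M : ℕ} (hM : ∀ P ∈ Γ.edges, maxCentralProduct ↥P ≤ M)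
    (hloc : ∀ v, M ≤ Nat.card ↥(Γ.md v) * Nat.card ↥(Γ.core v)) {s : ν} {P₀ : Subgroup 𝕏} (hP₀ : P₀ ∈ Γ.edges)
    (hs : P₀ ≤ Γ.grp s) : Lg M (Γ.compMd s) P₀ := by
  set U := Γ.compMd s with hU
  have hfin : ∀ v (P : Subgroup 𝕏), P ≤ Γ.grp v → Finite ↥P := fun v P h => by
    haveI := Γ.finite v
    exact Finite.of_injective _ (Subgroup.inclusion_injective h)
  have hmd : ∀ v, ∀ P ∈ Γ.edges, P ≤ Γ.grp v → Lg M (Γ.md v) P := fun v P hP h => by
    haveI := hfin v P h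
    refine ⟨(Γ.md_le v).trans (Γ.core_le v P hP h), (hloc v).trans (Nat.mul_le_mul_left _ ?_)⟩
    haveI : Finite ↥(P ⊓ centralizer (Γ.md v : Set 𝕏) : Subgroup 𝕏) :=
      Finite.of_injective _ (Subgroup.inclusion_injective inf_le_left)
    exact card_le_of_le (le_inf (Γ.core_le v P hP h) fun x hx =>
      mem_centralizer_iff.2 fun y hy => (Γ.md_comm v x hx y hy).symm)
  have hmove : ∀ {K : ℕ} {u : ν} {P P' W : Subgroup 𝕏}, Γ.Near K s u → P ∈ Γ.edges → P ≤ Γ.grp u →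
      P' ∈ Γ.edges → P' ≤ Γ.grp u → W ≤ U → Γ.md u ≤ W → Lg M W P' → Lg M W P := by
    intro K u P P' W hn hP hu hP' hu' hWU hmW h
    have hQP : Γ.core u ≤ P := Γ.core_le u P hP hu
    refine ⟨hWU.trans ((Γ.compMd_le_core hbad hn).trans hQP), h.2.trans (Nat.mul_le_mul_left _ ?_)⟩
    haveI := hfin u P hu
    haveI : Finite ↥(P ⊓ centralizer (W : Set 𝕏) : Subgroup 𝕏) :=
      Finite.of_injective _ (Subgroup.inclusion_injective inf_le_left)
    exact card_le_of_le fun x hx => ⟨hQP (Γ.cent_md u P' hP' hu' x hx.1 fun y hy =>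
      (mem_centralizer_iff.1 hx.2 y (hmW hy)).symm), hx.2⟩
  haveI hP₀f := hfin s P₀ hs
  set A : Set ℕ := {k | ∃ W, W ≤ U ∧ Lg M W P₀ ∧ Nat.card ↥W = k} with hA
  have hbdd : BddAbove A := ⟨Nat.card ↥P₀, fun k ⟨W, _, h, e⟩ => e ▸ card_le_of_le h.1⟩
  have hne : A.Nonempty := ⟨_, Γ.md s, Γ.md_le_compMd (N := 0) rfl, hmd s P₀ hP₀ hs, rfl⟩
  obtain ⟨W, hWU, hW, hWk⟩ := Nat.sSup_mem hne hbdd
  have hmax : ∀ W', W ≤ W' → W' ≤ U → Lg M W' P₀ → W' = W := fun W' h1 h2 h3 => by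
    haveI : Finite ↥W' := Finite.of_injective _ (Subgroup.inclusion_injective h3.1)
    exact (eq_of_le_of_card_ge h1 ((le_csSup hbdd ⟨W', h2, h3, rfl⟩).trans hWk.ge)).symm
  have key : ∀ K u, Γ.Near K s u → Γ.md u ≤ W ∧ ∀ P ∈ Γ.edges, P ≤ Γ.grp u → ∀ W', W ≤ W' → W' ≤ U →
      (Lg M W' P ↔ Lg M W' P₀) := by
    intro K
    induction K with
    | zero =>
      intro u hu
      obtain rfl : s = u := hu
      have h0 : Γ.md s ≤ W := by
        have := hmax _ le_sup_right (sup_le (Γ.md_le_compMd (N := 0) rfl) hWU)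
          ((hmd s P₀ hP₀ hs).sup (hM P₀ hP₀) hW)
        exact le_sup_left.trans this.le
      exact ⟨h0, fun P hP h W' h1 h2 => ⟨hmove (K := 0) rfl hP₀ hs hP h h2 (h0.trans h1),
        hmove (K := 0) rfl hP h hP₀ hs h2 (h0.trans h1)⟩⟩
    | succ K ih =>
      intro u hu
      have hu' := hu
      obtain ⟨x, hx, P₁, hP₁, h1x, h1u⟩ := hu
      obtain ⟨-, hx'⟩ := ih x hx
      have hWP₁ : Lg M W P₁ := (hx' P₁ hP₁ h1x W le_rfl hWU).2 hW
      haveI := hfin u P₁ h1u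
      have hle : Γ.md u ⊔ W ≤ U := sup_le (Γ.md_le_compMd hu') hWU
      have h0 : Γ.md u ≤ W := le_sup_left.trans (hmax _ le_sup_right hle
        ((hx' P₁ hP₁ h1x _ le_sup_right hle).1 ((hmd u P₁ hP₁ h1u).sup (hM P₁ hP₁) hWP₁))).le
      exact ⟨h0, fun P hP h W' h1 h2 => Iff.trans
        ⟨hmove hu' hP₁ h1u hP h h2 (h0.trans h1), hmove hu' hP h hP₁ h1u h2 (h0.trans h1)⟩
        (hx' P₁ hP₁ h1x W' h1 h2)⟩
  have : U = W := le_antisymm (iSup_le fun u => (key u.2.choose u.1 u.2.choose_spec).1) hWU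
  rwa [this]

end CfsgLib.LocalEven.PairUp
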