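import Cfsg.Agent.Lib.LocalEven.PairUp.BLe

/-!
Ends of critical paths which normalise the modules at their edges.
-/

set_option autoImplicit false

namespace CfsgLib.LocalEven.PairUp

open Subgroup
open CfsgLib.Fusion (conjSub conjSub_mono conjSub_eq_iff_mem_normalizer)
open CfsgLib.LocalEven.PushUp (ctr ctr_comm)
open scoped commutatorElement

variable {𝕏 : Type*} [Group 𝕏] {ν : Type*} {p : ℕ} {Γ : Amal 𝕏 ν p}

/-- A symmetry. -/
structure Amal.Sym (Γ : Amal 𝕏 ν p) where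
  /-- on the group -/
  φ : 𝕏 ≃* 𝕏
  /-- on the vertices -/
  σ : ν ≃ ν
  grp_map : ∀ v, Γ.grp (σ v) = (Γ.grp v).map φ.toMonoidHom
  core_map : ∀ v, Γ.core (σ v) = (Γ.core v).map φ.toMonoidHom
  md_map : ∀ v, Γ.md (σ v) = (Γ.md v).map φ.toMonoidHom
  edge_map : ∀ P ∈ Γ.edges, P.map φ.toMonoidHom ∈ Γ.edges
  edge_symm : ∀ P ∈ Γ.edges, P.map φ.symm.toMonoidHom ∈ Γ.edges

theorem map_symm_map (φ : 𝕏 ≃* 𝕏) (H : Subgroup 𝕏) : (H.map φ.toMonoidHom).map φ.symm.toMonoidHom = H := by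
  rw [Subgroup.map_map]
  convert Subgroup.map_id H using 2
  ext x
  simp

theorem map_map_symm (φ : 𝕏 ≃* 𝕏) (H : Subgroup 𝕏) : (H.map φ.symm.toMonoidHom).map φ.toMonoidHom = H := by
  rw [Subgroup.map_map]
  convert Subgroup.map_id H using 2
  ext x
  simp

theorem map_le_map_of_equiv (φ : 𝕏 ≃* 𝕏) {H L : Subgroup 𝕏} :
    H.map φ.toMonoidHom ≤ L.map φ.toMonoidHom ↔ H ≤ L :=
  Subgroup.map_le_map_iff_of_injective φ.injective

/-- The inverse symmetry. -/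
def Amal.Sym.symm (T : Γ.Sym) : Γ.Sym where
  φ := T.φ.symm
  σ := T.σ.symm
  grp_map v := by
    conv_rhs => rw [← T.σ.apply_symm_apply v, T.grp_map, map_symm_map]
  core_map v := by
    conv_rhs => rw [← T.σ.apply_symm_apply v, T.core_map, map_symm_map]
  md_map v := by
    conv_rhs => rw [← T.σ.apply_symm_apply v, T.md_map, map_symm_map]
  edge_map := T.edge_symm
  edge_symm P hP := by rw [MulEquiv.symm_symm]; exact T.edge_map P hP

/-- Conjugation as a symmetry. -/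
def Amal.conjSym (Γ : Amal 𝕏 ν p) (a : 𝕏) : Γ.Sym where
  φ := MulAut.conj a
  σ :=
    { toFun := Γ.act a
      invFun := Γ.act a⁻¹
      left_inv := Γ.act_inv a
      right_inv := fun v => by simpa using Γ.act_inv a⁻¹ v }
  grp_map := Γ.grp_act a
  core_map := Γ.core_act a
  md_map := Γ.md_act a
  edge_map := Γ.edge_conj a
  edge_symm P hP := by
    have e : P.map (MulAut.conj a).symm.toMonoidHom = conjSub a⁻¹ P := by
      rw [conjSub]
      congr 1
      ext x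
      simp [MulAut.conj_symm_apply]
    rw [e]
    exact Γ.edge_conj a⁻¹ P hP

variable (T : Γ.Sym)

theorem Amal.Sym.le_grp {P : Subgroup 𝕏} {u : ν} : P.map T.φ.toMonoidHom ≤ Γ.grp (T.σ u) ↔ P ≤ Γ.grp u := by
  rw [T.grp_map, map_le_map_of_equiv]

theorem Amal.Sym.md_le_core {u w : ν} : Γ.md (T.σ u) ≤ Γ.core (T.σ w) ↔ Γ.md u ≤ Γ.core w := by
  rw [T.md_map, T.core_map, map_le_map_of_equiv]

theorem Amal.Sym.nb_map (P : Subgroup 𝕏) : Γ.nb (P.map T.φ.toMonoidHom) = (Γ.nb P).map T.φ.toMonoidHom := by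
  refine le_antisymm (iSup_le fun u => ?_) ?_
  · have h1 : P ≤ Γ.grp (T.σ.symm u.1) := T.le_grp.1 (by rw [Equiv.apply_symm_apply]; exact u.2)
    have h2 := T.md_map (T.σ.symm u.1)
    rw [Equiv.apply_symm_apply] at h2
    rw [h2]
    exact Subgroup.map_mono (Γ.md_le_nb h1)
  · rw [Amal.nb, Subgroup.map_iSup]
    exact iSup_le fun u => (T.md_map u.1).ge.trans (Γ.md_le_nb (T.le_grp.2 u.2))

theorem Amal.Sym.fixed {v : ν} (h : Γ.Fixed v) : Γ.Fixed (T.σ v) := by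
  intro P hP hv
  have e : (P.map T.φ.symm.toMonoidHom).map T.φ.toMonoidHom = P := map_map_symm _ _
  rw [← e] at hv ⊢
  rw [T.grp_map, T.nb_map]
  refine le_trans (Subgroup.map_mono (h _ (T.edge_symm P hP) (T.le_grp.1 hv))) ?_
  exact Subgroup.le_normalizer_map _

theorem Amal.Sym.fixed_iff {v : ν} : Γ.Fixed (T.σ v) ↔ Γ.Fixed v :=
  ⟨fun h => by simpa [Amal.Sym.symm] using T.symm.fixed h, T.fixed⟩

/-- The image of a path. -/
def Amal.Sym.path {N : ℕ} (π : Γ.Path N) : Γ.Path N where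
  w i := T.σ (π.w i)
  e i := (π.e i).map T.φ.toMonoidHom
  mem i hi := T.edge_map _ (π.mem i hi)
  left i hi := T.le_grp.2 (π.left i hi)
  right i hi := T.le_grp.2 (π.right i hi)

/-- A fixed start of a critical path which cannot be replaced by a moving one. -/
def Amal.IsEnd (Γ : Amal 𝕏 ν p) (v : ν) (P : Subgroup 𝕏) : Prop :=
  ∃ (N : ℕ) (π : Γ.Path N), Γ.b ≤ N ∧ π.w 0 = v ∧ π.e 0 = P ∧ ¬ Γ.md (π.w 0) ≤ Γ.core (π.w Γ.b) ∧
    ∀ u, π.e 0 ≤ Γ.grp u → ¬ Γ.Fixed u → Γ.md u ≤ Γ.core (π.w Γ.b)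

theorem Amal.Sym.isEnd {v : ν} {P : Subgroup 𝕏} (h : Γ.IsEnd v P) : Γ.IsEnd (T.σ v) (P.map T.φ.toMonoidHom) := by
  obtain ⟨N, π, hN, rfl, rfl, hc, hall⟩ := h
  refine ⟨N, T.path π, hN, rfl, rfl, fun hle => hc (T.md_le_core.1 hle), fun u hu hf => ?_⟩
  have hu' : π.e 0 ≤ Γ.grp (T.σ.symm u) := T.le_grp.1 (by rw [Equiv.apply_symm_apply]; exact hu)
  have h1 := hall _ hu' fun h' => hf (by simpa using T.fixed h')
  have h2 := T.md_le_core.2 h1
  rwa [Equiv.apply_symm_apply] at h2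

/-- The commutator of an edge with the modules which do not end at it. -/
def Amal.endComm (Γ : Amal 𝕏 ν p) (P : Subgroup 𝕏) : Subgroup 𝕏 :=
  ⁅(⨆ u : {u : ν // P ≤ Γ.grp u ∧ ¬ Γ.IsEnd u P}, Γ.md u.1 : Subgroup 𝕏), P⁆

theorem Amal.comm_le_endComm {u : ν} {P : Subgroup 𝕏} (hu : P ≤ Γ.grp u) (he : ¬ Γ.IsEnd u P) :
    ⁅Γ.md u, P⁆ ≤ Γ.endComm P :=
  commutator_mono (le_iSup_of_le ⟨u, hu, he⟩ le_rfl) le_rfl

theorem Amal.Sym.endComm_le (P : Subgroup 𝕏) :
    (Γ.endComm P).map T.φ.toMonoidHom ≤ Γ.endComm (P.map T.φ.toMonoidHom) := by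
  rw [Amal.endComm, Subgroup.map_commutator, Subgroup.map_iSup]
  refine commutator_mono (iSup_le fun u => ?_) le_rfl
  refine le_iSup_of_le ⟨T.σ u.1, T.le_grp.2 u.2.1, fun he => u.2.2 ?_⟩ (T.md_map u.1).ge
  have h1 := T.symm.isEnd he
  simp only [Amal.Sym.symm, Equiv.symm_apply_apply, map_symm_map] at h1
  exact h1

/-- A fixed vertex centralises the commutator of an edge with the modules not ending at it, if it ends there. -/
theorem Amal.end_central (hb : 2 ≤ Γ.b) {v : ν} {P : Subgroup 𝕏} (h : Γ.IsEnd v P) :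
    Γ.grp v ≤ centralizer (Γ.endComm P : Set 𝕏) := by
  obtain ⟨N, π, hN, hv, hP, hc, hall⟩ := h
  subst hv hP
  set e0 := π.e 0 with he0
  set v := π.w 0 with hv
  set c := π.w Γ.b with hc'
  have he : e0 ∈ Γ.edges := π.mem 0 (by omega)
  have hev : e0 ≤ Γ.grp v := π.left 0 (by omega)
  have hfix : Γ.Fixed v := by
    by_contra hf
    exact hc (hall v hev hf)
  have hnorm := hfix e0 he hev
  have hnbe : Γ.nb e0 ≤ e0 := iSup_le fun u => (Γ.md_le u.1).trans (Γ.core_le u.1 e0 he u.2)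
  -- the commutators with the edge lie in its centre
  let T1 : Subgroup 𝕏 :=
    { carrier := {x | x ∈ Γ.nb e0 ∧ ∀ s ∈ e0, ⁅s, x⁆ ∈ ctr e0}
      one_mem' := ⟨one_mem _, fun s _ => by rw [commutatorElement_one_right]; exact one_mem _⟩
      mul_mem' := fun {x y} hx hy => ⟨mul_mem hx.1 hy.1, fun s hs => by
        rw [show ⁅s, x * y⁆ = ⁅s, x⁆ * (x * ⁅s, y⁆ * x⁻¹) by simp only [commutatorElement_def]; group,
          ctr_comm (hy.2 s hs) (hnbe hx.1), mul_inv_cancel_right]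
        exact mul_mem (hx.2 s hs) (hy.2 s hs)⟩
      inv_mem' := fun {x} hx => ⟨inv_mem hx.1, fun s hs => by
        rw [show ⁅s, x⁻¹⁆ = x⁻¹ * ⁅s, x⁆⁻¹ * x⁻¹⁻¹ by simp only [commutatorElement_def]; group,
          ctr_comm (inv_mem (hx.2 s hs)) (inv_mem (hnbe hx.1)), inv_inv, inv_mul_cancel_right]
        exact inv_mem (hx.2 s hs)⟩ }
  have hnb : Γ.nb e0 ≤ T1 := iSup_le fun u y hy =>
    ⟨Γ.md_le_nb u.2 hy, fun s hs => Γ.comm_ctr u.1 e0 he u.2 s hs y hy⟩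
  -- the commutator with the core is centralised by the vertex group
  set J := ⁅Γ.core v, Γ.nb e0⁆ with hJ
  have hJc : J ≤ ctr e0 := commutator_le.2 fun q hq x hx => (hnb hx).2 q (Γ.core_le v e0 he hev hq)
  have hJn : ∀ g ∈ Γ.grp v, conjSub g J = J := fun g hg => by
    rw [hJ, conjSub, map_commutator]
    congr 1
    · exact conjSub_eq_iff_mem_normalizer.2 (Γ.core_norm v hg)
    · exact conjSub_eq_iff_mem_normalizer.2 (hnorm hg)
  obtain ⟨g, hg, hne⟩ := Γ.other v e0 he hev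
  have hgv : conjSub g e0 ≤ Γ.grp v := by
    rw [← Γ.act_self v g hg, Γ.grp_act]
    exact conjSub_mono g hev
  have hgen : Γ.grp v ≤ e0 ⊔ conjSub g e0 :=
    Γ.gen v e0 he hev _ (Γ.edge_conj g _ he) hgv hne.symm
  have hJcent : Γ.grp v ≤ centralizer (J : Set 𝕏) := by
    have h1 : e0 ≤ centralizer (J : Set 𝕏) := fun s hs =>
      mem_centralizer_iff.2 fun x hx => (ctr_comm (hJc hx) hs).symm
    refine hgen.trans (sup_le h1 ?_)
    rintro _ ⟨s, hs, rfl⟩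
    refine mem_centralizer_iff.2 fun x hx => ?_
    rw [SetLike.mem_coe, ← hJn g hg] at hx
    obtain ⟨x', hx', rfl⟩ := hx
    show (MulAut.conj g).toMonoidHom x' * (MulAut.conj g).toMonoidHom s = _
    rw [← map_mul, ← map_mul, mem_centralizer_iff.1 (h1 hs) x' hx']
  -- generators
  have hbN : 0 + Γ.b ≤ N := by omega
  have hc0 : ¬ Γ.md (π.w 0) ≤ Γ.core (π.w (0 + Γ.b)) := by rw [Nat.zero_add]; exact hc
  have hfirst := Γ.first_eq π (by omega) hbN hc0
  rw [Nat.zero_add] at hfirst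
  have hcg : Γ.md c ≤ Γ.grp v := by
    have := Γ.md_le_first π (by omega) hbN
    rw [Nat.zero_add] at this
    exact this.trans hev
  let T2 : Subgroup 𝕏 :=
    { carrier := {x | x ∈ Γ.nb e0 ∧ ∀ s ∈ e0, ⁅x, s⁆ ∈ centralizer (Γ.grp v : Set 𝕏)}
      one_mem' := ⟨one_mem _, fun s _ => by rw [commutatorElement_one_left]; exact one_mem _⟩
      mul_mem' := fun {x y} hx hy => ⟨mul_mem hx.1 hy.1, fun s hs => by
        have hc1 : ⁅y, s⁆ ∈ ctr e0 := by rw [← commutatorElement_inv]; exact inv_mem ((hnb hy.1).2 s hs)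
        rw [show ⁅x * y, s⁆ = x * ⁅y, s⁆ * x⁻¹ * ⁅x, s⁆ by simp only [commutatorElement_def]; group,
          ctr_comm hc1 (hnbe hx.1), mul_inv_cancel_right]
        exact mul_mem (hy.2 s hs) (hx.2 s hs)⟩
      inv_mem' := fun {x} hx => ⟨inv_mem hx.1, fun s hs => by
        have hc1 : ⁅x, s⁆ ∈ ctr e0 := by rw [← commutatorElement_inv]; exact inv_mem ((hnb hx.1).2 s hs)
        rw [show ⁅x⁻¹, s⁆ = x⁻¹ * ⁅x, s⁆⁻¹ * x⁻¹⁻¹ by simp only [commutatorElement_def]; group,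
          ctr_comm (inv_mem hc1) (inv_mem (hnbe hx.1)), inv_inv, inv_mul_cancel_right]
        exact inv_mem (hx.2 s hs)⟩ }
  have hkey : ∀ u, e0 ≤ Γ.grp u → ¬ Γ.IsEnd u e0 → Γ.md u ≤ Γ.core c := by
    intro u hu hue
    by_contra hcu
    refine hue ⟨N, ⟨fun i => if i = 0 then u else π.w i, π.e, π.mem, fun i hi => ?_, fun i hi => ?_⟩,
      hN, rfl, rfl, ?_, ?_⟩
    · show π.e i ≤ Γ.grp (if i = 0 then u else π.w i)
      split_ifs with hh
      · exact hh ▸ hu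
      · exact π.left i hi
    · show π.e i ≤ Γ.grp (if i + 1 = 0 then u else π.w (i + 1))
      rw [if_neg (Nat.succ_ne_zero i)]
      exact π.right i hi
    · show ¬ Γ.md (if (0 : ℕ) = 0 then u else π.w 0) ≤ Γ.core (if Γ.b = 0 then u else π.w Γ.b)
      rw [if_pos rfl, if_neg (by omega)]
      exact hcu
    · intro u' hu' hf'
      show Γ.md u' ≤ Γ.core (if Γ.b = 0 then u else π.w Γ.b)
      rw [if_neg (by omega)]
      exact hall u' hu' hf'
  have hsup : (⨆ u : {u : ν // e0 ≤ Γ.grp u ∧ ¬ Γ.IsEnd u e0}, Γ.md u.1 : Subgroup 𝕏) ≤ T2 := by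
    refine iSup_le fun u x hx => ⟨Γ.md_le_nb u.2.1 hx, fun s hs => ?_⟩
    have hs' : s ∈ Γ.md c ⊔ Γ.core v := hfirst ▸ hs
    obtain ⟨a, ha, z, hz, rfl⟩ := Γ.exists_mul hcg hs'
    have hz' : ⁅x, z⁆ ∈ centralizer (Γ.grp v : Set 𝕏) := by
      rw [← commutatorElement_inv]
      exact inv_mem (le_centralizer_iff.1 hJcent
        (commutator_mem_commutator hz (Γ.md_le_nb u.2.1 hx)))
    rw [show ⁅x, a * z⁆ = ⁅x, a⁆ * (a * ⁅x, z⁆ * a⁻¹) by simp only [commutatorElement_def]; group,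
      commutatorElement_eq_one_iff_mul_comm.2 (Γ.md_comm c x (hkey u.1 u.2.1 u.2.2 hx) a ha), one_mul,
      mem_centralizer_iff.1 hz' a (hcg ha), mul_inv_cancel_right]
    exact hz'
  refine le_centralizer_iff.1 (commutator_le.2 fun x hx s hs => (hsup hx).2 s hs)

/-- Critical paths start at moving vertices if no end is possible. -/
theorem Amal.noEnd_of (h : ∀ v P, P ∈ Γ.edges → P ≤ Γ.grp v → ¬ Γ.IsEnd v P) : Γ.NoEnd := by
  intro N π hN hc
  by_contra hno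
  push Not at hno
  by_cases hb : Γ.b = 0
  · rw [hb] at hc
    exact hc (Γ.md_le _)
  exact h (π.w 0) (π.e 0) (π.mem 0 (by omega)) (π.left 0 (by omega))
    ⟨N, π, hN, rfl, rfl, hc, hno⟩

end CfsgLib.LocalEven.PairUp
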