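import Cfsg.Agent.Lib.LocalEven.PushUp.Case2

/-!
An element outside `K` moves a large part of every section the group moves.
-/

set_option autoImplicit false

namespace CfsgLib.LocalEven.PairUp

open Cfsg Subgroup
open CfsgLib.LocalEven.RankOne
open CfsgLib.LocalEven.PushUp (cop actKer cop_le_actKer)
open scoped commutatorElement

variable {G : Type*} [Group G] [Finite G] {p n : ℕ} [hp : Fact p.Prime] {S : Sylow p G} {K : Subgroup G} [K.Normal]

theorem le_index_of_moved (h : Hyp n S K) {W V H : Subgroup G} [W.Normal] [V.Normal] (hW : IsPGroup p W)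
    (hVH : V ≤ H) (hHW : H ≤ W) (hmov : ∃ c ∈ cop p G, ∃ u ∈ W, ⁅c, u⁆ ∉ V)
    {s : G} (hs : s ∈ (S : Subgroup G)) (hsK : s ∉ K) (hfix : ∀ x ∈ H, ⁅s, x⁆ ∈ V) :
    p ^ n ≤ H.relIndex W := by
  classical
  have hker : actKer W V ≤ K := fun g hg => by
    by_contra hgK
    obtain ⟨c, hc, u, hu, hne⟩ := hmov
    exact hne (cop_le_actKer h hgK hg hc u hu)
  set π := QuotientGroup.mk' V with hπ
  have hπ1 : ∀ x, π x = 1 ↔ x ∈ V := fun x => QuotientGroup.eq_one_iff x
  set N := W.map π with hN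
  haveI hNn : N.Normal := (inferInstance : W.Normal).map π (QuotientGroup.mk'_surjective V)
  have hNp : IsPGroup p N := hW.map π
  have hkerπ : π.ker = V := QuotientGroup.ker_mk' V
  set C1 := H.map π with hC1
  have hd : C1.relIndex N = H.relIndex W := by
    rw [hC1, hN, relIndex_map_map, hkerπ, sup_eq_left.2 hVH, sup_eq_left.2 (hVH.trans hHW)]
  have hC1N : C1 ≤ N := Subgroup.map_mono hHW
  rw [← hd]
  by_cases hn : 2 ≤ n
  · obtain ⟨r, a, hr, hrp, hmin, hpair⟩ := h.pair hn
    haveI := Fact.mk hr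
    obtain ⟨g, z, m, hzcl, hzm, hzK⟩ := hpair s hs hsK
    have hmove : ∃ v ∈ N, π z ^ r ^ a * v ≠ v * π z ^ r ^ a := by
      by_contra hc
      push Not at hc
      refine hzK (hker fun u hu => (hπ1 _).1 ?_)
      rw [map_commutatorElement, map_pow]
      exact commutatorElement_eq_one_iff_mul_comm.2 (hc (π u) ⟨u, hu, rfl⟩)
    have hNg : N.map (MulAut.conj (π g)).toMonoidHom = N :=
      CfsgLib.Fusion.conjSub_eq_iff_mem_normalizer.2 (by rw [normalizer_eq_top N]; trivial)
    set C2 := C1.map (MulAut.conj (π g)).toMonoidHom with hC2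
    have hrel : C2.relIndex N = C1.relIndex N := by
      conv_lhs => rw [hC2, ← hNg]
      exact relIndex_map_map_of_injective _ _ (MulAut.conj (π g)).injective
    have hcomm1 : ∀ w ∈ C1, π s * w = w * π s := by
      rintro _ ⟨x, hx, rfl⟩
      refine commutatorElement_eq_one_iff_mul_comm.1 ?_
      rw [← map_commutatorElement]
      exact (hπ1 _).2 (hfix x hx)
    have hfix' : ∀ w ∈ C1 ⊓ C2, π z * w = w * π z := by
      rintro w ⟨hw, w', hw', rfl⟩
      refine (mem_centralizer_singleton_iff.1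
        (((closure_le ((centralizer ({(MulAut.conj (π g)).toMonoidHom w'} : Set (G ⧸ V))).comap π)).2 ?_) hzcl)).symm.symm
      rintro y (rfl | rfl)
      · exact mem_centralizer_singleton_iff.2 (hcomm1 _ hw)
      · refine mem_centralizer_singleton_iff.2 ?_
        show π (g * s * g⁻¹) * (π g * w' * (π g)⁻¹) = π g * w' * (π g)⁻¹ * π (g * s * g⁻¹)
        rw [map_mul, map_mul, map_inv]
        calc π g * π s * (π g)⁻¹ * (π g * w' * (π g)⁻¹) = π g * (π s * w') * (π g)⁻¹ := by group
          _ = π g * (w' * π s) * (π g)⁻¹ := by rw [hcomm1 w' hw']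
          _ = _ := by group
    obtain ⟨k, hk, hkd, hkle⟩ := index_bound hNp
      (by rw [normalizer_eq_top N]; trivial) hrp (by rw [← map_pow, hzm, map_one]) hmove
      (inf_le_left.trans hC1N : C1 ⊓ C2 ≤ N) hfix'
    have h2 : (p ^ n) ^ 2 ≤ C1.relIndex N ^ 2 := by
      rw [← pow_mul, mul_comm n 2, pow_two]
      refine ((Nat.pow_le_pow_right hp.out.pos (hmin k hk hkd)).trans hkle).trans (relIndex_inf_le.trans ?_)
      rw [hrel]
    exact (Nat.pow_le_pow_iff_left two_ne_zero).1 h2
  · obtain rfl : n = 1 := by have := h.pos; omega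
    rw [pow_one]
    obtain ⟨j, hj⟩ := IsPGroup.iff_card.1 hNp
    obtain ⟨i, -, hi⟩ := (Nat.dvd_prime_pow hp.out).1 (hj ▸ relIndex_dvd_card C1 N)
    rcases i with _ | i
    · rw [pow_zero, relIndex_eq_one] at hi
      refine absurd (hker fun u hu => ?_) hsK
      obtain ⟨x, hx, e⟩ := hi (show π u ∈ N from ⟨u, hu, rfl⟩)
      have hd : x⁻¹ * u ∈ V := (QuotientGroup.eq).1 e
      have hxu : u = x * (x⁻¹ * u) := by group
      rw [hxu, show ⁅s, x * (x⁻¹ * u)⁆ = ⁅s, x⁆ * (x * ⁅s, x⁻¹ * u⁆ * x⁻¹) by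
        simp only [commutatorElement_def]; group]
      exact mul_mem (hfix x hx) ((inferInstance : V.Normal).conj_mem _
        (commutator_le_right ⊤ V (commutator_mem_commutator (mem_top s) hd)) x)
    · rw [hi]
      exact Nat.le_self_pow (Nat.succ_ne_zero i) p

end CfsgLib.LocalEven.PairUp
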