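import Cfsg.Agent.Lib.LocalEven.PairUp.Quad
import Cfsg.Agent.Lib.LocalEven.PairUp.Section

/-!
The two configurations, read inside the members along a critical path.
-/

set_option autoImplicit false

namespace CfsgLib.LocalEven.PairUp

open Cfsg Subgroup
open CfsgLib.LocalEven.RankOne
open CfsgLib.LocalEven.PushUp (ctr ctr_comm Emb MemHyp MemFacts SecondFacts Core2 Case1 Case2 vS_conj ctr_map
  moved_of cop cop_sup mem_center_pull card_quot_pCore mem_pCore_of_pow)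
open CfsgLib.Fusion (conjSub conjSub_mono)
open scoped commutatorElement

variable {G : Type*} [Group G] [Finite G] {p n : ℕ} [hp : Fact p.Prime] {K : Subgroup G} [K.Normal]
variable {𝕏 : Type*} [Group 𝕏] {ν : Type*} {Γ : Amal 𝕏 ν p} {S₁ : Sylow p G} {ι : G →* 𝕏}
variable {u x y z : ν} {f e e' : Subgroup 𝕏}

theorem Corner.core2 (h : Corner Γ u x y z f e e')
    (em : Emb p S₁ ι (Γ.grp x) (Γ.core x) (Γ.md x) Γ.edges) (m : ∀ P : Sylow p G, MemHyp n P K) :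
    ∃ P : Sylow p G, (P : Subgroup G).map ι = e ∧
      ((wMod Γ x u y).comap ι).Normal ∧ p ^ n ≤ Γ.qv y ∧ (Γ.qv y ≤ p ^ n →
      Core2 n P ((wMod Γ x u y).comap ι) ((Γ.md z).comap ι) ((wMod Γ x u y ⊓ Γ.core y).comap ι)) := by
  obtain ⟨P, hP⟩ := em.edge e h.snd.mem h.snd.left
  haveI := Γ.finite x
  have hinj := em.inj
  have hQ : ∀ g, g ∈ pCore p G ↔ ι g ∈ Γ.core x := fun g => by rw [em.core, mem_map_iff_mem hinj]
  have hV : ∀ g, g ∈ vS P ↔ ι g ∈ Γ.md x := fun g => by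
    rw [em.md, mem_map_iff_mem hinj, vS_conj S₁ P]
  have hW : ((wMod Γ x u y).comap ι).Normal := ⟨fun g hg a => by
    show ι (a * g * a⁻¹) ∈ wMod Γ x u y
    rw [map_mul, map_mul, map_inv]
    exact (mem_normalizer_iff.1 (wMod_norm Γ x u y (em.grp ▸ ⟨a, rfl⟩)) _).1 hg⟩
  obtain ⟨hu, hy, hx⟩ := h.md_le_mod
  have hzG : Γ.md z ≤ e := h.snd.eq ▸ le_sup_left
  have hzS : ∀ g, ι g ∈ ctr e → g ∈ zS P := fun g hg => by
    rwa [hP, ctr_map hinj, mem_map_iff_mem hinj] at hg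
  have hAS : ∀ g, ι g ∈ Γ.md z → g ∈ (P : Subgroup G) := fun g hg => (mem_map_iff_mem hinj).1 (hP ▸ hzG hg)
  have hcH : ∀ a ∈ (Γ.md z).comap ι, ∀ w ∈ (wMod Γ x u y ⊓ Γ.core y).comap ι, ⁅a, w⁆ ∈ zS P :=
    fun a ha w hw => hzS _ (by
      rw [map_commutatorElement]
      exact h.near_part.1 (ι a) ha (ι w) hw)
  have hVH : vS P ≤ (wMod Γ x u y ⊓ Γ.core y).comap ι := fun g hg =>
    ⟨hx ((hV g).1 hg), h.md_le_of_adj (Γ.adj_symm h.near.2.1) ((hV g).1 hg)⟩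
  have hHW : (wMod Γ x u y ⊓ Γ.core y).comap ι ≤ (wMod Γ x u y).comap ι := fun g hg => hg.1
  have hWQ : (wMod Γ x u y).comap ι ≤ pCore p G := fun g hg => (hQ g).2 (h.mod_le hg)
  have hmov : ∃ c ∈ cop p G, ∃ w ∈ (wMod Γ x u y).comap ι, ⁅c, w⁆ ∉ vS P := by
    refine moved_of (Ap := (Γ.md y).comap ι) (fun g hg => hy hg) ?_ (cop_sup (m P).hyp) ?_
    · intro s hs
      have hs' : ι s ∈ normalizer (Γ.md y : Set 𝕏) := Γ.md_norm y (h.snd.mid (hP ▸ ⟨s, hs, rfl⟩))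
      refine mem_normalizer_iff.2 fun g => ?_
      show ι g ∈ Γ.md y ↔ ι (s * g * s⁻¹) ∈ Γ.md y
      rw [map_mul, map_mul, map_inv]
      exact mem_normalizer_iff.1 hs' _
    · intro hall
      refine h.not_all_le fun a ha => ?_
      obtain ⟨a', rfl⟩ : a ∈ ι.range := em.grp ▸ ha
      rintro _ ⟨w, hw, rfl⟩
      obtain ⟨w', rfl⟩ : w ∈ ι.range := em.grp ▸ h.grp_le (h.mod_le (hy hw))
      have h1 := hall a' (CfsgLib.Fusion.conj_mem_conjSub (hw : w' ∈ (Γ.md y).comap ι))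
      have h2 : (Γ.md y).comap ι ⊔ vS P ≤ (Γ.md y ⊔ Γ.md x).comap ι :=
        sup_le (fun g hg => show ι g ∈ _ from mem_sup_left hg)
          fun g hg => show ι g ∈ _ from mem_sup_right ((hV g).1 hg)
      have h3 : ι (a' * w' * a'⁻¹) ∈ Γ.md y ⊔ Γ.md x := h2 h1
      show ι a' * ι w' * (ι a')⁻¹ ∈ Γ.md y ⊔ Γ.md x
      rwa [← map_inv, ← map_mul, ← map_mul]
  have hidx : ((wMod Γ x u y ⊓ Γ.core y).comap ι).relIndex ((wMod Γ x u y).comap ι) ≤ Γ.qv y := by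
    have hWr : wMod Γ x u y ≤ ι.range := em.grp ▸ h.mod_le.trans h.grp_le
    rw [relIndex_comap, map_comap_eq_self hWr, inf_relIndex_left]
    have hWe : wMod Γ x u y ≤ e := h.mod_le.trans (Γ.core_le x e h.snd.mem h.snd.left)
    haveI : Finite ↥e := Finite.of_injective _ (Subgroup.inclusion_injective h.snd.left)
    exact (relIndex_le_of_le_right hWe index_ne_zero_of_finite).trans (Γ.core_index y e h.snd.mem h.snd.mid).le
  refine ⟨P, hP.symm, hW, ?_, fun hq =>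
    { V_le_H := hVH
      H_le := hHW
      W_le := hWQ
      comm := fun g hg w hw => (mem_center_pull hinj em.grp).2 fun a ha => by
        rw [map_commutatorElement]
        exact mem_centralizer_iff.1 (h.comm_core (ι g) ((hQ g).1 hg) (ι w) hw).2 a ha
      powc := fun w hw => (mem_center_pull hinj em.grp).2 fun a ha => by
        rw [map_pow]
        exact mem_centralizer_iff.1 (h.pow_mod (ι w) hw).1.2 a ha
      A_le := hAS
      cover := ?_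
      A_pow := fun a ha => hinj (by rw [map_pow, map_one]; exact Γ.md_pow z _ ha)
      A_comm := fun a ha a' ha' => hinj (by
        rw [map_mul, map_mul]
        exact Γ.md_comm z _ (Γ.md_le z ha) _ ha')
      comm_H := hcH
      index := hidx.trans hq
      comm_W := fun a ha w hw => by
        show ι ⁅a, w⁆ ∈ wMod Γ x u y ⊓ Γ.core y
        rw [map_commutatorElement]
        exact h.near_part.2.1 (ι a) ha (ι w) hw
      moved := hmov }⟩
  · -- an element of the far module moves a large part of the section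
    obtain ⟨s, hs, hsQ⟩ := SetLike.not_le_iff_exists.1 h.snd.out
    obtain ⟨s', rfl⟩ : s ∈ ι.range := em.grp ▸ h.snd.left (hzG hs)
    have hsS := hAS s' hs
    have hsK : s' ∉ K := fun hK => hsQ ((hQ _).1 ((m P).hyp.inf_eq.le ⟨hsS, hK⟩))
    haveI := hW
    refine le_trans (le_index_of_moved (m P).hyp ((CfsgLib.Cores.isPGroup_pCore (p := p) (G := G)).to_le hWQ)
      hVH hHW hmov hsS hsK fun w hw => zS_le_vS P (hcH s' hs w hw)) hidx
  · -- cover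
    intro g hg
    have h1 : ι g ∈ Γ.md z ⊔ Γ.core x := h.snd.eq ▸ hP ▸ ⟨g, hg, rfl⟩
    obtain ⟨a, ha, c, hc, e'⟩ := Γ.exists_mul (hzG.trans h.snd.left) h1
    obtain ⟨a', rfl⟩ : a ∈ ι.range := em.grp ▸ h.snd.left (hzG ha)
    have h2 : a'⁻¹ * g ∈ pCore p G := (hQ _).2 (by rwa [map_mul, map_inv, e', inv_mul_cancel_left])
    have h3 : a' ∈ (Γ.md z).comap ι := ha
    have := mul_mem (mem_sup_left (T := pCore p G) h3) (mem_sup_right (S := (Γ.md z).comap ι) h2)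
    rwa [mul_inv_cancel_left] at this

/-- The pairing at the middle of a path of length four is not central. -/
theorem exists_crit (hy : Corner Γ z y x u e' e f) {w : ν} {g g' : Subgroup 𝕏}
    (hy' : Corner Γ x y z w e e' g) (S₂ : Sylow p G) (em : Emb p S₂ ι (Γ.grp y) (Γ.core y) (Γ.md y) Γ.edges)
    (m : ∀ P : Sylow p G, MemHyp n P K) (F : Type) [Field F] [Fintype F] (hF : Fintype.card F = p ^ n)
    (hx : Corner Γ u x y z f e g') (hqx : Γ.qv x ≤ p ^ n) (hqz : Γ.qv z ≤ p ^ n) :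
    ∃ a ∈ Γ.md z, ∃ v ∈ Γ.md u, ¬ ∀ k ∈ Γ.grp x, k * ⁅a, ⁅a, v⁆⁆ = ⁅a, ⁅a, v⁆⁆ * k := by
  by_contra hall
  push Not at hall
  obtain ⟨P, hP, hWn, -, c0⟩ := hy.core2 em m
  obtain ⟨P', hP', -, -, c0'⟩ := hy'.core2 em m
  have c := c0 hqx
  have c' := c0' hqz
  rw [wMod_swap Γ y x z] at c'
  haveI := hWn
  obtain ⟨a, ha, haQ⟩ := SetLike.not_le_iff_exists.1 hx.snd.out
  obtain ⟨hz, hxm, hym⟩ := hy.md_le_mod
  apply haQ
  refine Γ.cent_md x e hx.snd.mem hx.snd.left a ((hx.snd.eq ▸ le_sup_left : Γ.md z ≤ e) ha) fun v hv => ?_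
  have hzr : Γ.md z ≤ ι.range := em.grp ▸ hz.trans (hy.mod_le.trans hy.grp_le)
  have hxr : Γ.md x ≤ ι.range := em.grp ▸ hxm.trans (hy.mod_le.trans hy.grp_le)
  obtain ⟨a', rfl⟩ := hzr ha
  obtain ⟨v', rfl⟩ := hxr hv
  have ha' : a' ∈ (wMod Γ y z x).comap ι := hz ha
  have haH : a' ∉ (wMod Γ y z x ⊓ Γ.core x).comap ι := fun h => haQ h.2
  have hvH : v' ∈ (wMod Γ y z x ⊓ Γ.core x).comap ι := ⟨hxm hv, Γ.md_le x hv⟩
  obtain ⟨b, hb, hbH⟩ := c.fill (F := F) c' (m P) (m P') hF ha' haH hvH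
  set r := ι b with hr
  have hk : ι (⁅b, a'⁆ * v'⁻¹) ∈ (wMod Γ y z x ⊓ Γ.core x) ⊓ (wMod Γ y z x ⊓ Γ.core z) := ⟨hbH.1, hbH.2⟩
  set t := ι (⁅b, a'⁆ * v'⁻¹) with ht
  have hta : Commute t (ι a') := Γ.md_comm z t hk.2.2 (ι a') ha
  have hv' : ι v' = t⁻¹ * ⁅r, ι a'⁆ := by
    rw [ht, hr, ← map_commutatorElement, ← map_inv, ← map_mul]
    congr 1
    group
  have hrW : r ∈ wMod Γ x u y := hx.md_le_mod.1 hb
  have hcen : ∀ k ∈ Γ.grp x, k * ⁅ι a', ι v'⁆ = ⁅ι a', ι v'⁆ * k := by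
    have e1 : ⁅ι a', ι v'⁆ = t⁻¹ * ⁅ι a', ⁅r, ι a'⁆⁆ * t := by
      rw [hv', show ⁅ι a', t⁻¹ * ⁅r, ι a'⁆⁆ = ⁅ι a', t⁻¹⁆ * (t⁻¹ * ⁅ι a', ⁅r, ι a'⁆⁆ * t⁻¹⁻¹) by
        simp only [commutatorElement_def]; group,
        commutatorElement_eq_one_iff_mul_comm.2 hta.inv_left.symm.eq, one_mul, inv_inv]
    set Y := ⁅ι a', r⁆ with hY
    have hYW : Y ∈ wMod Γ x u y := (hx.near_part.2.1 (ι a') ha r hrW).1
    have hYG : Y ∈ Γ.grp x := hx.grp_le (hx.mod_le hYW)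
    set Φ := ⁅ι a', Y⁆ with hΦ
    have hΦc : ∀ k ∈ Γ.grp x, k * Φ = Φ * k := hall (ι a') ha r hb
    have e2 : ⁅ι a', ⁅r, ι a'⁆⁆ = Φ⁻¹ := by
      rw [← commutatorElement_inv (ι a') r, ← hY, show ⁅ι a', Y⁻¹⁆ = Y⁻¹ * ⁅ι a', Y⁆⁻¹ * Y by
        simp only [commutatorElement_def]; group, ← hΦ, mul_assoc, ← (show Commute Y Φ⁻¹ from
          (show Commute Y Φ from hΦc Y hYG).inv_right).eq, inv_mul_cancel_left]
    have htG : t ∈ Γ.grp x := hx.grp_le hk.1.2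
    intro k hk'
    rw [e1, e2, mul_assoc, ← (show Commute t Φ⁻¹ from (show Commute t Φ from hΦc t htG).inv_right).eq,
      inv_mul_cancel_left]
    exact (show Commute k Φ from hΦc k hk').inv_right
  exact commutatorElement_eq_one_iff_mul_comm.1 (Γ.not_center x e hx.snd.mem hx.snd.left _
    ((hx.snd.eq ▸ le_sup_left : Γ.md z ≤ e) ha) _ hv hcen)

/-- Critical length one, read at the start of the path. -/
theorem case_one {S : Sylow p G} (hb1 : Γ.b = 1) {N : ℕ} (π : Γ.Path N) (hN : 1 ≤ N)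
    (hc : ¬ Γ.md (π.w 0) ≤ Γ.core (π.w 1))
    (em : Emb p S ι (Γ.grp (π.w 0)) (Γ.core (π.w 0)) (Γ.md (π.w 0)) Γ.edges) :
    ∃ (P : Sylow p G) (A B : Subgroup G), Case1 P A B := by
  have hb0 : 0 < Γ.b := by omega
  have hle : 0 + Γ.b ≤ N := by omega
  have hc0 : ¬ Γ.md (π.w 0) ≤ Γ.core (π.w (0 + Γ.b)) := by rw [hb1]; exact hc
  have e1 := Γ.first_eq π hb0 hle hc0
  have e2 := Γ.last_eq π hb0 hle hc0
  rw [show 0 + Γ.b = 1 by omega] at e1 e2
  rw [show 1 - 1 = 0 from rfl] at e2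
  have hP0 := π.left 0 (by omega)
  have hP1 : π.e 0 ≤ Γ.grp (π.w 1) := π.right 0 (by omega)
  obtain ⟨P, hP⟩ := em.edge _ (π.mem 0 (by omega)) hP0
  have hinj := em.inj
  have hA : Γ.md (π.w 1) ≤ π.e 0 := e1 ▸ le_sup_left
  have hQ : ∀ a, a ∈ pCore p G ↔ ι a ∈ Γ.core (π.w 0) := fun a => by rw [em.core, mem_map_iff_mem hinj]
  refine ⟨P, (Γ.md (π.w 1)).comap ι, (Γ.core (π.w 0) ⊓ Γ.core (π.w 1)).comap ι,
    fun a ha => (mem_map_iff_mem hinj).1 (hP ▸ hA ha), ?_,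
    fun a ha => hinj (by rw [map_pow, map_one]; exact Γ.md_pow _ _ ha),
    fun a ha a' ha' => hinj (by rw [map_mul, map_mul]; exact Γ.md_comm _ _ (Γ.md_le _ ha) _ ha'),
    fun b hb => (hQ b).2 hb.1,
    fun a ha b hb => hinj (by rw [map_mul, map_mul]; exact (Γ.md_comm _ _ hb.2 _ ha).symm), ?_⟩
  · intro a ha
    have h1 : ι a ∈ Γ.md (π.w 1) ⊔ Γ.core (π.w 0) := e1 ▸ hP ▸ ⟨a, ha, rfl⟩
    obtain ⟨b, hb, c, hc, e⟩ := Γ.exists_mul (hA.trans hP0) h1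
    obtain ⟨b', rfl⟩ : b ∈ ι.range := em.grp ▸ hP0 (hA hb)
    have h2 : b'⁻¹ * a ∈ pCore p G := (hQ _).2 (by rwa [map_mul, map_inv, e, inv_mul_cancel_left])
    have := mul_mem (mem_sup_left (T := pCore p G) (show b' ∈ (Γ.md (π.w 1)).comap ι from hb))
      (mem_sup_right (S := (Γ.md (π.w 1)).comap ι) h2)
    rwa [mul_inv_cancel_left] at this
  · intro a ha
    have hq := (hQ a).1 ha
    have h1 : ι a ∈ Γ.md (π.w 0) ⊔ Γ.core (π.w 1) := e2 ▸ Γ.core_le _ _ (π.mem 0 (by omega)) hP0 hq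
    obtain ⟨v, hv, c, hc, e⟩ := Γ.exists_mul
      ((e2 ▸ le_sup_left : Γ.md (π.w 0) ≤ π.e 0).trans hP1) h1
    have hv' := hv
    rw [em.md] at hv'
    obtain ⟨v', hv'', rfl⟩ := hv'
    have hvP : v' ∈ vS P := by rw [vS_conj S P]; exact hv''
    have h2 : v'⁻¹ * a ∈ (Γ.core (π.w 0) ⊓ Γ.core (π.w 1)).comap ι := by
      refine ⟨?_, ?_⟩
      · show ι (v'⁻¹ * a) ∈ Γ.core (π.w 0)
        rw [map_mul, map_inv]
        exact mul_mem (inv_mem (Γ.md_le _ hv)) hq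
      · show ι (v'⁻¹ * a) ∈ Γ.core (π.w 1)
        rwa [map_mul, map_inv, e, inv_mul_cancel_left]
    have := mul_mem (mem_sup_left (T := (Γ.core (π.w 0) ⊓ Γ.core (π.w 1)).comap ι) hvP)
      (mem_sup_right (S := vS P) h2)
    rwa [mul_inv_cancel_left] at this

/-- The field sizes agree at the middle of a long path of critical length two. -/
theorem case_two {G' : Type*} [Group G'] [Finite G'] {n' : ℕ} {K' : Subgroup G'} [K'.Normal] {ι' : G' →* 𝕏}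
    {S : Sylow p G} {S' : Sylow p G'} (hb : Γ.b = 2) (g : Γ.Geo 2)
    (em : Emb p S ι (Γ.grp (g.w 1)) (Γ.core (g.w 1)) (Γ.md (g.w 1)) Γ.edges)
    (em' : Emb p S' ι' (Γ.grp (g.w 2)) (Γ.core (g.w 2)) (Γ.md (g.w 2)) Γ.edges)
    (hm : ∀ P : Sylow p G, MemHyp n P K) (hm' : ∀ P : Sylow p G', MemHyp n' P K')
    (hq : Γ.qv (g.w 1) = p ^ n) (hq' : Γ.qv (g.w 2) = p ^ n')
    (F : Type) [Field F] [Fintype F] (hF : Fintype.card F = p ^ n) :
    ∃ (P : Sylow p G) (W A H C : Subgroup G), W.Normal ∧ Case2 n P W A H C := by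
  have W0 := g.win hb (i := 0) (by omega)
  have W1 := g.win hb (i := 1) (by omega)
  have W2 := g.win hb (i := 2) (by omega)
  have t0 : ctr (g.e 0) ≠ ctr (g.e 1) := g.turn 0 (by omega)
  have t1 : ctr (g.e 1) ≠ ctr (g.e 2) := g.turn 1 (by omega)
  have hx : Corner Γ (g.w 0) (g.w 1) (g.w 2) (g.w 3) (g.e 0) (g.e 1) (g.e 2) := ⟨hb, W0, W1, t0⟩
  have hy : Corner Γ (g.w 3) (g.w 2) (g.w 1) (g.w 0) (g.e 2) (g.e 1) (g.e 0) := ⟨hb, W1.symm, W0.symm, t1.symm⟩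
  have hy' : Corner Γ (g.w 1) (g.w 2) (g.w 3) (g.w 4) (g.e 1) (g.e 2) (g.e 3) := ⟨hb, W1, W2, t1⟩
  obtain ⟨P, hP, hWn, h12, c0⟩ := hx.core2 em hm
  obtain ⟨-, -, -, h21, -⟩ := hy.core2 em' hm'
  rw [hq'] at h12
  rw [hq] at h21
  have hnn : p ^ n = p ^ n' := le_antisymm h12 h21
  have hn : n = n' := Nat.pow_right_injective hp.out.two_le hnn
  subst hn
  have hq3 : Γ.qv (g.w 3) ≤ p ^ n := by
    have := Γ.qv_eq g.toPath (i := 1) (by omega) (by omega) (g.crit 1 (by omega))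
    rw [show 1 + Γ.b = 3 by omega] at this
    exact (this.symm.trans hq).le
  obtain ⟨a, ha, v, hv, hne⟩ := exists_crit hy hy' S' em' hm' F hF hx hq.le hq3
  have c := c0 hq'.le
  have hinj := em.inj
  have hQ : ∀ k, k ∈ pCore p G ↔ ι k ∈ Γ.core (g.w 1) := fun k => by rw [em.core, mem_map_iff_mem hinj]
  set C := fourCore Γ (g.w 0) (g.w 1) (g.w 2) (g.w 3)
  refine ⟨P, _, _, _, C.comap ι, hWn,
    { toCore2 := c
      out := fun b hb' k hk => by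
        show ι ⁅b, k⁆ ∈ wMod Γ (g.w 1) (g.w 0) (g.w 2)
        rw [map_commutatorElement]
        exact hx.near_part.2.2 (ι b) hb' (ι k) ((hQ k).1 hk)
      powW := fun h2 w hw => hinj (by
        rw [map_pow, map_one]
        exact (hx.pow_mod (ι w) hw).2 (hp.out.odd_of_ne_two h2))
      C_le := fun k hk => (hQ k).2 hk.1.1.2
      AC := fun b hb' k hk => hinj (by rw [map_mul, map_mul]; exact (Γ.md_comm _ _ hk.2 _ hb').symm)
      gen := ?_
      crit := ?_ }⟩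
  · intro k hk
    have hWr : wMod Γ (g.w 1) (g.w 0) (g.w 2) ≤ ι.range := em.grp ▸ hx.mod_le.trans hx.grp_le
    have hCg : C ≤ Γ.grp (g.w 1) := fun t ht => hx.grp_le ht.1.1.2
    have hCr : C ≤ ι.range := em.grp ▸ hCg
    have h1 := hx.gen ((hQ k).1 hk)
    have hle : (wMod Γ (g.w 1) (g.w 0) (g.w 2) ⊓ centralizer (C : Set 𝕏)) ⊔ C ≤
        (((wMod Γ (g.w 1) (g.w 0) (g.w 2)).comap ι ⊓ centralizer (C.comap ι : Set G)) ⊔ C.comap ι).map ι := by
      refine sup_le (fun t ht => ?_) (fun t ht => ?_)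
      · obtain ⟨t', rfl⟩ := hWr ht.1
        refine ⟨t', mem_sup_left ⟨ht.1, mem_centralizer_iff.2 fun s hs => hinj ?_⟩, rfl⟩
        rw [map_mul, map_mul]
        exact mem_centralizer_iff.1 ht.2 (ι s) hs
      · obtain ⟨t', rfl⟩ := hCr ht
        exact ⟨t', mem_sup_right ht, rfl⟩
    exact (mem_map_iff_mem hinj).1 (hle h1)
  · obtain ⟨a', rfl⟩ : a ∈ ι.range := em.grp ▸ hx.snd.left ((hx.snd.eq ▸ le_sup_left :
      Γ.md (g.w 3) ≤ g.e 1) ha)
    obtain ⟨v', rfl⟩ : v ∈ ι.range := em.grp ▸ hx.grp_le (hx.md_le_of_adj hx.near.1 hv)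
    refine ⟨a', ha, v', hx.md_le_mod.1 hv, fun hc => hne fun k hk => ?_⟩
    have := (mem_center_pull hinj em.grp).1 hc k hk
    rwa [map_commutatorElement, map_commutatorElement] at this

end CfsgLib.LocalEven.PairUp
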