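import Cfsg.Agent.Lib.LocalEven.PairUp.Central
import Cfsg.Agent.Lib.LocalEven.PairUp.Pull

/-!
A family in which a characteristic central subgroup is central in no member: some large characteristic subgroup
is normal in all members.
-/

set_option autoImplicit false

namespace CfsgLib.LocalEven.PairUp

open Cfsg Subgroup
open CfsgLib.LocalEven.RankOne
open CfsgLib.LocalEven.PushUp
open CfsgLib.Fusion (conjSub conjSub_mono conjSub_conjSub conjSub_one)
open scoped commutatorElement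

section

variable {𝕏 : Type*} [Group 𝕏] {ν : Type*} {p : ℕ} {Γ : Amal 𝕏 ν p}

theorem Amal.fixed_of_isEnd {v : ν} {P : Subgroup 𝕏} (h : Γ.IsEnd v P) (hv : P ≤ Γ.grp v) : Γ.Fixed v := by
  obtain ⟨N, π, -, rfl, rfl, hc, hall⟩ := h
  by_contra hf
  exact hc (hall _ hv hf)

theorem Amal.endComm_le_ctr {P : Subgroup 𝕏} (hP : P ∈ Γ.edges) : Γ.endComm P ≤ ctr P := by
  let T : Subgroup 𝕏 :=
    { carrier := {x | x ∈ P ∧ ∀ s ∈ P, ⁅x, s⁆ ∈ ctr P}
      one_mem' := ⟨one_mem _, fun s _ => by rw [commutatorElement_one_left]; exact one_mem _⟩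
      mul_mem' := fun {x y} hx hy => ⟨mul_mem hx.1 hy.1, fun s hs => by
        rw [show ⁅x * y, s⁆ = x * ⁅y, s⁆ * x⁻¹ * ⁅x, s⁆ by simp only [commutatorElement_def]; group,
          ctr_comm (hy.2 s hs) hx.1, mul_inv_cancel_right]
        exact mul_mem (hy.2 s hs) (hx.2 s hs)⟩
      inv_mem' := fun {x} hx => ⟨inv_mem hx.1, fun s hs => by
        rw [show ⁅x⁻¹, s⁆ = x⁻¹ * ⁅x, s⁆⁻¹ * x⁻¹⁻¹ by simp only [commutatorElement_def]; group,
          ctr_comm (inv_mem (hx.2 s hs)) (inv_mem hx.1), inv_inv, inv_mul_cancel_right]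
        exact inv_mem (hx.2 s hs)⟩ }
  have hT : (⨆ u : {u : ν // P ≤ Γ.grp u ∧ ¬ Γ.IsEnd u P}, Γ.md u.1 : Subgroup 𝕏) ≤ T :=
    iSup_le fun u x hx => ⟨Γ.core_le _ P hP u.2.1 (Γ.md_le _ hx), fun s hs => by
      rw [← commutatorElement_inv]
      exact inv_mem (Γ.comm_ctr _ P hP u.2.1 s hs x hx)⟩
  exact commutator_le.2 fun x hx s hs => (hT hx).2 s hs

end

variable {S₀ : Type*} [Group S₀] [Finite S₀] {I : Type*} {G : I → Type*} [∀ i, Group (G i)] [∀ i, Finite (G i)]
  {p : ℕ} [hp : Fact p.Prime] {n : I → ℕ} {τ : ∀ i, S₀ →* G i} {S : ∀ i, Sylow p (G i)}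
  {K : ∀ i, Subgroup (G i)} [∀ i, (K i).Normal]

variable (τ) in
/-- The vertex of a member. -/
def std (i : I) : Vtx τ := ⟨(i, 1), QuotientGroup.mk 1⟩

omit [Finite S₀] hp [∀ i, Finite (G i)] in
theorem vHom_std (i : I) (s : S₀) : vHom (i, (1 : MulAut S₀)) 1 (τ i s) = baseHom τ s := by
  show MulAut.conj (1 : Over τ) (copyHom τ (i, 1) (τ i s)) = _
  rw [map_one, MulAut.one_apply]
  exact copyHom_copyMap τ (i, (1 : MulAut S₀)) s

omit [Finite S₀] hp [∀ i, Finite (G i)] in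
theorem map_std (i : I) (Y : Subgroup S₀) :
    (Y.map (τ i)).map (vHom (i, (1 : MulAut S₀)) 1) = Y.map (baseHom τ) := by
  rw [Subgroup.map_map]
  exact congrArg (fun f => Subgroup.map f Y) (MonoidHom.ext (vHom_std i))

omit [Finite S₀] hp [∀ i, Finite (G i)] in
theorem base_le_std (i : I) : (baseHom τ).range ≤ vGrp (std τ i) := by
  rintro _ ⟨s, rfl⟩
  show baseHom τ s ∈ conjSub 1 (copyHom τ (i, 1)).range
  rw [conjSub_one]
  exact ⟨copyMap τ (i, 1) s, copyHom_copyMap τ (i, (1 : MulAut S₀)) s⟩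

section withField

variable (M : Fam τ n S K) (F : I → Type) [∀ i, Field (F i)] [∀ i, Fintype (F i)]
  (hF : ∀ i, Fintype.card (F i) = p ^ n i)

include M in
omit [Finite S₀] in
theorem Fam.std_base (i : I) : (S i : Subgroup (G i)).map (vHom (i, (1 : MulAut S₀)) 1) = (baseHom τ).range := by
  rw [map_vHom, conjSub_one]
  exact (base_range M.range (i, 1)).symm

omit [Finite S₀] in
theorem base_mem : (baseHom τ).range ∈ (M.amal F hF).edges := ⟨1, (conjSub_one _).symm⟩

omit [Finite S₀] in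
theorem Fam.tw_copy (i : I) (α : MulAut S₀) :
    (M.twSym F hF α).σ ⟨(i, α), QuotientGroup.mk 1⟩ = std τ i := by
  show twVtx α ⟨(i, α), QuotientGroup.mk 1⟩ = _
  rw [twVtx_mk, map_one]
  exact congrArg (fun k => (⟨k, QuotientGroup.mk 1⟩ : Vtx τ)) (show twIdx α (i, α) = (i, (1 : MulAut S₀)) from
    Prod.ext rfl (mul_inv_cancel α))

omit [Finite S₀] in
theorem Fam.fixed_std {v : Vtx τ} (h : (M.amal F hF).Fixed (std τ v.1.1)) : (M.amal F hF).Fixed v := by
  obtain ⟨g, hg⟩ := vertex_rep v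
  rw [← M.tw_copy F hF v.1.1 v.1.2, Amal.Sym.fixed_iff] at h
  have h1 := ((M.amal F hF).conjSym g).fixed h
  have e : ((M.amal F hF).conjSym g).σ (⟨v.1, QuotientGroup.mk 1⟩ : Vtx τ) = v := by
    show vAct g _ = v
    rw [vAct_mk, mul_one]
    exact hg.symm
  rwa [show ((v.1.1, v.1.2) : I × MulAut S₀) = v.1 from rfl, e] at h1

omit [Finite S₀] in
theorem Fam.end_std {v : Vtx τ} {P : Subgroup (Over τ)} (hP : P ∈ (M.amal F hF).edges)
    (hv : P ≤ (M.amal F hF).grp v) (h : (M.amal F hF).IsEnd v P) :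
    (M.amal F hF).IsEnd (std τ v.1.1) (baseHom τ).range := by
  set Γ := M.amal F hF
  set B := (baseHom τ).range with hB
  obtain ⟨g, hg⟩ := vertex_rep v
  have hB0 : B ≤ Γ.grp (⟨v.1, QuotientGroup.mk 1⟩ : Vtx τ) := by
    rintro _ ⟨s, rfl⟩
    show baseHom τ s ∈ conjSub 1 (copyHom τ v.1).range
    rw [conjSub_one]
    exact ⟨copyMap τ v.1 s, copyHom_copyMap τ v.1 s⟩
  have hgv : Γ.act g (⟨v.1, QuotientGroup.mk 1⟩ : Vtx τ) = v := by
    show vAct g _ = v
    rw [vAct_mk, mul_one]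
    exact hg.symm
  have hgB : conjSub g B ≤ Γ.grp v := by
    rw [← hgv, Γ.grp_act]
    exact conjSub_mono g hB0
  obtain ⟨a, ha, rfl⟩ := Γ.edge_trans v (conjSub g B) ⟨g, rfl⟩ hgB P hP hv
  have h1 := ((Γ.conjSym (a * g)⁻¹).isEnd h)
  have e : Γ.act (a * g) (⟨v.1, QuotientGroup.mk 1⟩ : Vtx τ) = v := by
    conv_rhs => rw [← Γ.act_self v a ha, ← hgv]
    show vAct _ _ = vAct a (vAct g _)
    rw [vAct_mk, vAct_mk, vAct_mk, mul_assoc]
  have e1 : (Γ.conjSym (a * g)⁻¹).σ v = (⟨v.1, QuotientGroup.mk 1⟩ : Vtx τ) := by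
    show Γ.act (a * g)⁻¹ v = _
    conv_lhs => rw [← e]
    exact Γ.act_inv _ _
  have e2 : (conjSub a (conjSub g B)).map (Γ.conjSym (a * g)⁻¹).φ.toMonoidHom = B := by
    show conjSub (a * g)⁻¹ _ = B
    rw [conjSub_conjSub, conjSub_conjSub, show (a * g)⁻¹ * a * g = 1 by group, conjSub_one]
  rw [e1, e2] at h1
  have h2 := (M.twSym F hF v.1.2).isEnd h1
  rw [show (⟨v.1, QuotientGroup.mk 1⟩ : Vtx τ) = ⟨(v.1.1, v.1.2), QuotientGroup.mk 1⟩ from rfl,
    M.tw_copy F hF] at h2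
  rwa [show B.map (M.twSym F hF v.1.2).φ.toMonoidHom = B from twHom_base_range _] at h2

omit [Finite S₀] in
/-- With a minimal subgroup central in no member, no end occurs. -/
theorem Fam.noEnd (hb : 2 ≤ (M.amal F hF).b) (X : Subgroup S₀) [X.Characteristic]
    (hX : ∀ i, ¬ X.map (τ i) ≤ center (G i))
    (hmeet : ∀ i, X.map (τ i) ⊓ ⁅vS (S i), (S i : Subgroup (G i))⁆ ≠ ⊥)
    (hmin : ∀ Y : Subgroup S₀, Y.Characteristic → Y ≤ center S₀ →
      (∀ i, ¬ Y.map (τ i) ≤ center (G i) → ⁅vS (S i), (S i : Subgroup (G i))⁆ ≤ Y.map (τ i)) →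
      X ⊓ Y ≠ ⊥ → X ≤ Y) : (M.amal F hF).NoEnd := by
  set Γ := M.amal F hF with hΓ
  refine Γ.noEnd_of fun v P hP hv hend => ?_
  have hend' := M.end_std F hF hP hv hend
  set B := (baseHom τ).range with hB
  have hBe : B ∈ Γ.edges := base_mem M F hF
  set Y := (Γ.endComm B).comap (baseHom τ) with hY
  have hEB : Γ.endComm B ≤ ctr B := Γ.endComm_le_ctr hBe
  have hYm : Y.map (baseHom τ) = Γ.endComm B := map_comap_eq_self (hEB.trans inf_le_left)
  have hYc : Y.Characteristic := characteristic_iff_map_le.2 fun β => by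
    rintro _ ⟨y, hy, rfl⟩
    show baseHom τ (β y) ∈ Γ.endComm B
    have h1 := (M.twSym F hF β).endComm_le B ⟨_, (hy : baseHom τ y ∈ Γ.endComm B), rfl⟩
    rw [show B.map (M.twSym F hF β).φ.toMonoidHom = B from twHom_base_range _] at h1
    rw [← twHom_base]
    exact h1
  have hYz : Y ≤ center S₀ := fun y hy => mem_center_iff.2 fun s => M.baseHom_injective (by
    rw [map_mul, map_mul]
    exact ctr_comm (hEB hy) ⟨s, rfl⟩)
  have hpure : ∀ i, ¬ Γ.IsEnd (std τ i) B → ⁅vS (S i), (S i : Subgroup (G i))⁆ ≤ Y.map (τ i) := by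
    intro i hi
    have e := M.emb (i, (1 : MulAut S₀)) 1
    refine (map_le_map_iff_of_injective e.inj).1 ?_
    rw [Subgroup.map_commutator, map_std, hYm, M.std_base i, ← e.md]
    exact Γ.comm_le_endComm (base_le_std i) hi
  have hcent : ∀ i, Γ.IsEnd (std τ i) B → Y.map (τ i) ≤ center (G i) := by
    intro i hi
    have e := M.emb (i, (1 : MulAut S₀)) 1
    rintro _ ⟨y, hy, rfl⟩
    refine mem_center_iff.2 fun g => e.inj ?_
    rw [map_mul, map_mul, vHom_std]
    have hg : vHom (i, (1 : MulAut S₀)) 1 g ∈ Γ.grp (std τ i) := e.grp.ge ⟨g, rfl⟩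
    exact (mem_centralizer_iff.1 (Γ.end_central hb hi hg) _ hy).symm
  -- the second vertex of the path gives a member without end
  obtain ⟨N, π, hN, hw, he, hc, hall⟩ := hend'
  have hmov := Γ.second_not_fixed hb π hN hc
  have hi : ¬ Γ.IsEnd (std τ (π.w 1).1.1) B := fun h =>
    hmov (M.fixed_std F hF (Γ.fixed_of_isEnd h (base_le_std _)))
  have hne : X ⊓ Y ≠ ⊥ := fun h0 => hmeet (π.w 1).1.1 (le_bot_iff.1 fun z hz => by
    obtain ⟨x, hx, rfl⟩ := hz.1
    obtain ⟨y, hy, e⟩ := hpure _ hi hz.2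
    obtain rfl := M.inj _ e
    have h1 : y ∈ X ⊓ Y := ⟨hx, hy⟩
    rw [h0, mem_bot] at h1
    rw [h1, map_one]
    exact one_mem _)
  have hXY : X ≤ Y := hmin Y hYc hYz (fun i hi' => hpure i fun h => hi' (hcent i h)) hne
  exact hX v.1.1 ((Subgroup.map_mono hXY).trans (hcent _ ⟨N, π, hN, hw, he, hc, hall⟩))

end withField

/-- A large characteristic subgroup normal in every member. -/
theorem Fam.exists_normal (M : Fam τ n S K) [Nonempty I] (X : Subgroup S₀) [X.Characteristic]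
    (hX : ∀ i, ¬ X.map (τ i) ≤ center (G i))
    (hkill₁ : ∀ i (P : Sylow p (G i)) (A B : Subgroup (G i)), Case1 P A B → X.map (τ i) ≤ center (G i))
    (hkill₂ : ∀ i (P : Sylow p (G i)) (W A H C : Subgroup (G i)), W.Normal → Case2 (n i) P W A H C →
      X.map (τ i) ≤ center (G i))
    (hmeet : ∀ i, X.map (τ i) ⊓ ⁅vS (S i), (S i : Subgroup (G i))⁆ ≠ ⊥)
    (hmin : ∀ Y : Subgroup S₀, Y.Characteristic → Y ≤ center S₀ →
      (∀ i, ¬ Y.map (τ i) ≤ center (G i) → ⁅vS (S i), (S i : Subgroup (G i))⁆ ≤ Y.map (τ i)) →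
      X ⊓ Y ≠ ⊥ → X ≤ Y)
    (hmeas : ∀ i, maxCentralProduct S₀ ≤ Nat.card ↥(vS (S i)) * Nat.card ↥(pCore p (G i))) :
    ∃ D : Subgroup S₀, D.Characteristic ∧ maxCentralProduct ↥D = maxCentralProduct S₀ ∧
      ∀ i, (D.map (τ i)).Normal := by
  classical
  have hFin : ∀ i, ∃ (F : Type) (_ : Field F) (_ : Fintype F), Fintype.card F = p ^ n i := fun i =>
    have hn : n i ≠ 0 := Nat.one_le_iff_ne_zero.1 (M.mem i (S i)).hyp.pos
    ⟨GaloisField p (n i), inferInstance, Fintype.ofFinite _, by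
      letI := Fintype.ofFinite (GaloisField p (n i))
      rw [← Nat.card_eq_fintype_card, GaloisField.card p (n i) hn]⟩
  choose F iF iT hF using hFin
  set Γ := M.amal F hF with hΓ
  have hbad : ¬ Γ.Bad := by
    intro hbad
    have hb0 := Γ.b_pos hbad
    by_cases hb1 : Γ.b = 1
    · obtain ⟨N, u, w, hn', hc⟩ := hbad
      obtain ⟨u', w', h1, h2⟩ := Nat.sInf_mem (s := {N | ∃ u w, Γ.Near N u w ∧ ¬ Γ.md u ≤ Γ.core w})
        ⟨N, u, w, hn', hc⟩
      rw [show sInf {N | ∃ u w, Γ.Near N u w ∧ ¬ Γ.md u ≤ Γ.core w} = 1 from hb1] at h1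
      obtain ⟨π, e0, e1⟩ := Γ.exists_path h1
      obtain ⟨g, hg⟩ := vertex_rep (π.w 0)
      have em := M.emb (π.w 0).1 g
      rw [← hg] at em
      obtain ⟨P, A, B, hc1⟩ := case_one hb1 π le_rfl (by rw [e0, e1]; exact h2) em
      exact hX _ (hkill₁ _ P A B hc1)
    · have hb : 2 ≤ Γ.b := by omega
      have hend := M.noEnd F hF hb X hX hmeet hmin
      have hb2 : Γ.b = 2 := le_antisymm (Γ.b_le_two hbad hend) hb
      obtain ⟨geo, -⟩ := Γ.exists_geo hbad hend 2
      obtain ⟨g, hg⟩ := vertex_rep (geo.w 1)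
      obtain ⟨g', hg'⟩ := vertex_rep (geo.w 2)
      have em := M.emb (geo.w 1).1 g
      have em' := M.emb (geo.w 2).1 g'
      rw [← hg] at em
      rw [← hg'] at em'
      obtain ⟨P, W, A, H, C, hW, hc2⟩ := case_two (n := n (geo.w 1).1.1) hb2 geo em em' (M.mem _) (M.mem _)
        rfl rfl (F (geo.w 1).1.1) (hF _)
      exact hX _ (hkill₂ _ P W A H C hW hc2)
  obtain ⟨i₀⟩ := ‹Nonempty I›
  set B := (baseHom τ).range with hB
  have hBe : B ∈ Γ.edges := base_mem M F hF
  set U := Γ.compMd (std τ i₀) with hU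
  have hB0 : B ≤ Γ.grp (std τ i₀) := base_le_std i₀
  have hUB : U ≤ B := (Γ.compMd_le_core hbad (N := 0) rfl).trans (Γ.core_le _ B hBe hB0)
  have hnear : ∀ i, Γ.Near 1 (std τ i₀) (std τ i) := fun i =>
    Γ.near_one ⟨B, hBe, hB0, base_le_std i⟩
  have hUstd : ∀ i, ∀ g ∈ Γ.grp (std τ i), conjSub g U ≤ U := fun i g hg => by
    rw [hU, Amal.compMd, conjSub, Subgroup.map_iSup]
    refine iSup_le fun u => ?_
    obtain ⟨N, hN⟩ := u.2
    have h1 := Γ.near_act g (Γ.near_trans (Γ.near_symm (hnear i)) hN)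
    rw [Γ.act_self _ g hg] at h1
    exact (Γ.md_act g u.1).ge.trans (Γ.md_le_compMd (Γ.near_trans (hnear i) h1))
  set D := (centralizer (U : Set (Over τ))).comap (baseHom τ) with hD
  -- invariance under the automorphisms
  have hUtw : ∀ β : MulAut S₀, U.map (twHom β) ≤ U := fun β => by
    have htw : ∀ N u w, Γ.Near N u w → Γ.Near N ((M.twSym F hF β).σ u) ((M.twSym F hF β).σ w) := by
      intro N
      induction N with
      | zero => intro u w h; exact congrArg _ (show u = w from h)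
      | succ N ih =>
        rintro u w ⟨x, hx, P, hP, h1, h2⟩
        exact ⟨_, ih u x hx, _, (M.twSym F hF β).edge_map P hP, (M.twSym F hF β).le_grp.2 h1,
          (M.twSym F hF β).le_grp.2 h2⟩
    rw [hU, Amal.compMd, Subgroup.map_iSup]
    refine iSup_le fun u => ?_
    obtain ⟨N, hN⟩ := u.2
    have hadj : Γ.Near 1 (std τ i₀) ((M.twSym F hF β).σ (std τ i₀)) := Γ.near_one ⟨B, hBe, hB0, by
      rw [hB, ← twHom_base_range β]
      exact (M.twSym F hF β).le_grp.2 hB0⟩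
    exact ((M.twSym F hF β).md_map u.1).ge.trans (Γ.md_le_compMd (Γ.near_trans hadj (htw N _ _ hN)))
  refine ⟨D, characteristic_iff_map_le.2 fun β => ?_, ?_, fun i => ?_⟩
  · rintro _ ⟨s, hs, rfl⟩
    refine mem_centralizer_iff.2 fun u hu => ?_
    show u * baseHom τ (β s) = baseHom τ (β s) * u
    have hu' : twHom β⁻¹ u ∈ U := hUtw β⁻¹ ⟨u, hu, rfl⟩
    have h1 := congrArg (twHom (τ := τ) β) (mem_centralizer_iff.1 (show baseHom τ s ∈ centralizer (U : Set (Over τ))
      from hs) _ hu')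
    rwa [map_mul, map_mul, twHom_twHom, mul_inv_cancel, twHom_one, twHom_base] at h1
  · -- the measure
    have hBf : Finite ↥B := Finite.of_surjective _ (baseHom τ).rangeRestrict_surjective
    have hM : ∀ P ∈ Γ.edges, maxCentralProduct ↥P ≤ maxCentralProduct S₀ := by
      rintro P ⟨a, rfl⟩
      exact (maxCentralProduct_le_of_injective
        (f := ((B.equivMapOfInjective (MulAut.conj a).toMonoidHom (MulAut.conj a).injective).symm).toMonoidHom)
        (MulEquiv.injective _)).trans (maxCentralProduct_le_of_injective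
        (f := ((MonoidHom.ofInjective M.baseHom_injective).symm : ↥B ≃* S₀).toMonoidHom) (MulEquiv.injective _))
    have hloc : ∀ v, maxCentralProduct S₀ ≤ Nat.card ↥(Γ.md v) * Nat.card ↥(Γ.core v) := fun v => by
      obtain ⟨g, hg⟩ := vertex_rep v
      have em := M.emb v.1 g
      rw [← hg] at em
      show _ ≤ Nat.card ↥(vMd S v) * Nat.card ↥(vCore p v)
      rw [em.md, em.core, card_map_of_injective em.inj, card_map_of_injective em.inj]
      exact hmeas v.1.1
    obtain ⟨-, hUM⟩ := Γ.lg_compMd hbad hM hloc hBe hB0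
    have hUc := Γ.compMd_comm hbad (std τ i₀)
    refine le_antisymm (maxCentralProduct_le_of_injective D.subtype_injective) ?_
    have hDm : D.map (baseHom τ) = B ⊓ centralizer (U : Set (Over τ)) := map_comap_eq _ _
    set U' := U.comap (baseHom τ) with hU'
    have hUm : U'.map (baseHom τ) = U := map_comap_eq_self hUB
    have hU'D : U' ≤ D := fun x hx => hUc hx
    have hcen : U'.subgroupOf D ≤ center ↥D := fun x hx => mem_center_iff.2 fun y =>
      Subtype.ext (M.baseHom_injective (by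
        rw [Subgroup.coe_mul, Subgroup.coe_mul, map_mul, map_mul]
        exact (mem_centralizer_iff.1 y.2 (baseHom τ (x : S₀)) hx).symm))
    refine hUM.trans ?_
    have hcU : Nat.card ↥U = Nat.card ↥U' := by rw [← hUm, card_map_of_injective M.baseHom_injective]
    show Nat.card ↥U * _ ≤ _
    rw [hcU, ← hDm, card_map_of_injective M.baseHom_injective,
      ← Nat.card_congr (subgroupOfEquivOfLe hU'D).toEquiv, mul_comm]
    refine le_trans (Nat.mul_le_mul_left _ (card_le_of_le hcen)) ?_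
    have := measure_le_max (⊤ : Subgroup ↥D)
    rwa [card_top, Nat.card_congr (Subgroup.centerCongr (topEquiv : (⊤ : Subgroup ↥D) ≃* ↥D)).toEquiv] at this
  · have e := M.emb (i, (1 : MulAut S₀)) 1
    set ι := vHom (τ := τ) (i, (1 : MulAut S₀)) 1
    have hkey : D.map (τ i) = pCore p (G i) ⊓ (centralizer (U : Set (Over τ))).comap ι := by
      refine le_antisymm ?_ ?_
      · rintro _ ⟨s, hs, rfl⟩
        have hs' : ι (τ i s) ∈ centralizer (U : Set (Over τ)) := by
          show vHom (i, (1 : MulAut S₀)) 1 (τ i s) ∈ _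
          rw [vHom_std]
          exact hs
        refine ⟨?_, hs'⟩
        have hsS : τ i s ∈ (S i : Subgroup (G i)) := by rw [M.range i]; exact ⟨s, rfl⟩
        refine ((M.mem i (S i)).facts (F i) (hF i)).centralizer_le ⟨hsS, mem_centralizer_iff.2 fun v hv => e.inj ?_⟩
        rw [map_mul, map_mul]
        refine mem_centralizer_iff.1 hs' (ι v) (Γ.md_le_compMd (hnear i) ?_)
        exact e.md.ge ⟨v, hv, rfl⟩
      · rintro x ⟨hxQ, hx⟩
        obtain ⟨s, rfl⟩ : x ∈ (τ i).range := M.range i ▸ CfsgLib.Cores.pCore_le_sylow (S i) hxQ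
        refine ⟨s, ?_, rfl⟩
        show baseHom τ s ∈ centralizer (U : Set (Over τ))
        rw [← vHom_std i]
        exact hx
    rw [hkey]
    haveI : ((centralizer (U : Set (Over τ))).comap ι).Normal := ⟨fun x hx y => by
      show ι (y * x * y⁻¹) ∈ centralizer (U : Set (Over τ))
      refine mem_centralizer_iff.2 fun u hu => ?_
      have hy : ι y ∈ Γ.grp (std τ i) := e.grp.ge ⟨y, rfl⟩
      have hu' : (ι y)⁻¹ * u * ι y ∈ U := by
        have := hUstd i (ι y)⁻¹ (inv_mem hy) (CfsgLib.Fusion.conj_mem_conjSub hu)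
        simpa using this
      have h1 := mem_centralizer_iff.1 (show ι x ∈ centralizer (U : Set (Over τ)) from hx) _ hu'
      rw [map_mul, map_mul, map_inv]
      calc u * (ι y * ι x * (ι y)⁻¹) = ι y * ((ι y)⁻¹ * u * ι y * ι x) * (ι y)⁻¹ := by group
        _ = ι y * (ι x * ((ι y)⁻¹ * u * ι y)) * (ι y)⁻¹ := by rw [h1]
        _ = ι y * ι x * (ι y)⁻¹ * u := by group⟩
    exact Subgroup.normal_inf_normal _ _

end CfsgLib.LocalEven.PairUp
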