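import Cfsg.Agent.Lib.LocalEven.PushUp.Graph

/-!
A family of members in a common overgroup, each vertex with its own field size: the critical length, the paths.
-/

set_option autoImplicit false

namespace CfsgLib.LocalEven.PairUp

open Subgroup
open CfsgLib.Fusion (conjSub conjSub_mono)
open CfsgLib.LocalEven.PushUp (ctr ctr_comm)
open scoped commutatorElement

/-- A family of finite groups glued along edges inside one group. -/
structure Amal (𝕏 : Type*) [Group 𝕏] (ν : Type*) (p : ℕ) where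
  /-- the field size -/
  qv : ν → ℕ
  /-- the vertex group -/
  grp : ν → Subgroup 𝕏
  /-- its core -/
  core : ν → Subgroup 𝕏
  /-- its module -/
  md : ν → Subgroup 𝕏
  /-- the edge groups -/
  edges : Set (Subgroup 𝕏)
  /-- the action -/
  act : 𝕏 → ν → ν
  grp_act : ∀ g v, grp (act g v) = conjSub g (grp v)
  core_act : ∀ g v, core (act g v) = conjSub g (core v)
  md_act : ∀ g v, md (act g v) = conjSub g (md v)
  edge_conj : ∀ g P, P ∈ edges → conjSub g P ∈ edges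
  act_self : ∀ v, ∀ g ∈ grp v, act g v = v
  act_inv : ∀ g v, act g⁻¹ (act g v) = v
  finite : ∀ v, Finite ↥(grp v)
  exists_edge : ∀ v, ∃ P ∈ edges, P ≤ grp v
  edge_trans : ∀ v, ∀ P ∈ edges, P ≤ grp v → ∀ P' ∈ edges, P' ≤ grp v → ∃ g ∈ grp v, conjSub g P = P'
  other : ∀ v, ∀ P ∈ edges, P ≤ grp v → ∃ g ∈ grp v, ctr (conjSub g P) ≠ ctr P
  core_le : ∀ v, ∀ P ∈ edges, P ≤ grp v → core v ≤ P
  md_le : ∀ v, md v ≤ core v
  core_norm : ∀ v, grp v ≤ normalizer (core v : Set 𝕏)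
  md_norm : ∀ v, grp v ≤ normalizer (md v : Set 𝕏)
  md_comm : ∀ v, ∀ x ∈ core v, ∀ y ∈ md v, x * y = y * x
  md_pow : ∀ v, ∀ y ∈ md v, y ^ p = 1
  ctr_le : ∀ v, ∀ P ∈ edges, P ≤ grp v → ctr P ≤ md v
  md_index : ∀ v, ∀ P ∈ edges, P ≤ grp v → (ctr P).relIndex (md v) = qv v
  core_index : ∀ v, ∀ P ∈ edges, P ≤ grp v → (core v).relIndex P = qv v
  cent_md : ∀ v, ∀ P ∈ edges, P ≤ grp v → ∀ s ∈ P, (∀ y ∈ md v, s * y = y * s) → s ∈ core v
  fix_le : ∀ v, ∀ P ∈ edges, P ≤ grp v → ∀ s ∈ P, s ∉ core v → ∀ y ∈ md v, s * y = y * s → y ∈ ctr P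
  comm_ctr : ∀ v, ∀ P ∈ edges, P ≤ grp v → ∀ s ∈ P, ∀ y ∈ md v, ⁅s, y⁆ ∈ ctr P
  not_center : ∀ v, ∀ P ∈ edges, P ≤ grp v → ∀ s ∈ P, ∀ y ∈ md v,
    (∀ g ∈ grp v, g * ⁅s, y⁆ = ⁅s, y⁆ * g) → ⁅s, y⁆ = 1
  gen : ∀ v, ∀ P ∈ edges, P ≤ grp v → ∀ P' ∈ edges, P' ≤ grp v → ctr P ≠ ctr P' → grp v ≤ P ⊔ P'

variable {𝕏 : Type*} [Group 𝕏] {ν : Type*} {p : ℕ}

/-- Adjacency. -/
def Amal.Adj (Γ : Amal 𝕏 ν p) (u w : ν) : Prop := ∃ P ∈ Γ.edges, P ≤ Γ.grp u ∧ P ≤ Γ.grp w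

/-- At distance at most `N`. -/
def Amal.Near (Γ : Amal 𝕏 ν p) : ℕ → ν → ν → Prop
  | 0 => fun u w => u = w
  | N + 1 => fun u w => ∃ x, Γ.Near N u x ∧ Γ.Adj x w

variable {Γ : Amal 𝕏 ν p}

theorem Amal.adj_refl (u : ν) : Γ.Adj u u :=
  let ⟨P, hP, hle⟩ := Γ.exists_edge u
  ⟨P, hP, hle, hle⟩

theorem Amal.adj_symm {u w : ν} (h : Γ.Adj u w) : Γ.Adj w u :=
  let ⟨P, hP, h1, h2⟩ := h
  ⟨P, hP, h2, h1⟩

theorem Amal.near_one {u w : ν} (h : Γ.Adj u w) : Γ.Near 1 u w := ⟨u, rfl, h⟩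

theorem Amal.near_mono {N M : ℕ} (h : N ≤ M) {u w : ν} (hn : Γ.Near N u w) : Γ.Near M u w := by
  induction h with
  | refl => exact hn
  | step _ ih => exact ⟨w, ih, Γ.adj_refl w⟩

theorem Amal.near_trans {N M : ℕ} {u x w : ν} (h1 : Γ.Near N u x) (h2 : Γ.Near M x w) : Γ.Near (N + M) u w := by
  induction M generalizing w with
  | zero => exact (show x = w from h2) ▸ h1
  | succ M ih =>
    obtain ⟨y, hy, ha⟩ := h2
    exact ⟨y, ih hy, ha⟩

theorem Amal.near_symm {N : ℕ} {u w : ν} (h : Γ.Near N u w) : Γ.Near N w u := by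
  induction N generalizing w with
  | zero => exact (show u = w from h).symm
  | succ N ih =>
    obtain ⟨x, hx, ha⟩ := h
    have := Γ.near_trans (Γ.near_one (Γ.adj_symm ha)) (ih hx)
    rwa [Nat.add_comm] at this

theorem Amal.near_act {N : ℕ} {u w : ν} (g : 𝕏) (h : Γ.Near N u w) : Γ.Near N (Γ.act g u) (Γ.act g w) := by
  induction N generalizing w with
  | zero => exact congrArg (Γ.act g) (show u = w from h)
  | succ N ih =>
    obtain ⟨x, hx, P, hP, h1, h2⟩ := h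
    exact ⟨_, ih hx, conjSub g P, Γ.edge_conj g P hP, by rw [Γ.grp_act]; exact conjSub_mono g h1,
      by rw [Γ.grp_act]; exact conjSub_mono g h2⟩

theorem Amal.le_grp {v : ν} {P : Subgroup 𝕏} (hP : P ∈ Γ.edges) (h : P ≤ Γ.grp v) : Γ.core v ≤ Γ.grp v :=
  (Γ.core_le v P hP h).trans h

/-- The critical length. -/
noncomputable def Amal.b (Γ : Amal 𝕏 ν p) : ℕ :=
  sInf {N | ∃ u w, Γ.Near N u w ∧ ¬ Γ.md u ≤ Γ.core w}

/-- Some module is not inside some core. -/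
def Amal.Bad (Γ : Amal 𝕏 ν p) : Prop := ∃ N u w, Γ.Near N u w ∧ ¬ Γ.md u ≤ Γ.core w

theorem Amal.md_le_core {N : ℕ} {u w : ν} (h : Γ.Near N u w) (hN : N < Γ.b) : Γ.md u ≤ Γ.core w := by
  by_contra hc
  exact Nat.notMem_of_lt_sInf hN ⟨u, w, h, hc⟩

theorem Amal.md_commute {N : ℕ} {u w : ν} (h : Γ.Near N u w) (hN : N < Γ.b) {x y : 𝕏} (hx : x ∈ Γ.md u)
    (hy : y ∈ Γ.md w) : x * y = y * x :=
  Γ.md_comm w x (Γ.md_le_core h hN hx) y hy

/-- A path. -/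
structure Amal.Path (Γ : Amal 𝕏 ν p) (N : ℕ) where
  /-- vertices -/
  w : ℕ → ν
  /-- edges -/
  e : ℕ → Subgroup 𝕏
  mem : ∀ i < N, e i ∈ Γ.edges
  left : ∀ i < N, e i ≤ Γ.grp (w i)
  right : ∀ i < N, e i ≤ Γ.grp (w (i + 1))

theorem Amal.Path.near {N : ℕ} (π : Γ.Path N) {i j : ℕ} (hij : i ≤ j) (hj : j ≤ N) :
    Γ.Near (j - i) (π.w i) (π.w j) := by
  induction hij with
  | refl => rw [Nat.sub_self]; rfl
  | @step m hm ih =>
    rw [Nat.succ_sub hm]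
    exact ⟨π.w m, ih (Nat.le_of_succ_le hj), π.e m, π.mem m hj, π.left m hj, π.right m hj⟩

theorem Amal.exists_path {N : ℕ} {u w : ν} (h : Γ.Near N u w) : ∃ π : Γ.Path N, π.w 0 = u ∧ π.w N = w := by
  induction N generalizing w with
  | zero => exact ⟨⟨fun _ => u, fun _ => ⊥, by omega, by omega, by omega⟩, rfl, h⟩
  | succ N ih =>
    obtain ⟨x, hx, P, hP, h1, h2⟩ := h
    obtain ⟨π, e0, eN⟩ := ih hx
    refine ⟨⟨fun i => if i ≤ N then π.w i else w, fun i => if i < N then π.e i else P, fun i hi => ?_,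
      fun i hi => ?_, fun i hi => ?_⟩, ?_, ?_⟩
    · split_ifs with h'
      · exact π.mem i h'
      · exact hP
    · rw [if_pos (Nat.le_of_lt_succ hi)]
      split_ifs with h'
      · exact π.left i h'
      · obtain rfl : i = N := by omega
        exact eN ▸ h1
    · split_ifs with h' h'' <;> first | exact π.right i h' | exact h2 | omega
    · simp [e0]
    · simp

/-- A long path all whose windows of length `b` are critical, turning at every interior vertex. -/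
structure Amal.Geo (Γ : Amal 𝕏 ν p) (N : ℕ) extends Amal.Path Γ (N + Γ.b) where
  crit : ∀ i ≤ N, ¬ Γ.md (w i) ≤ Γ.core (w (i + Γ.b))
  turn : ∀ i < N, ctr (e i) ≠ ctr (e (i + 1))

theorem Amal.b_pos (hbad : Γ.Bad) : 0 < Γ.b := by
  rcases Nat.eq_zero_or_pos Γ.b with h | h
  · exfalso
    obtain ⟨N, u, w, hn, hc⟩ := hbad
    obtain ⟨u', w', h1, h2⟩ := Nat.sInf_mem (s := {N | ∃ u w, Γ.Near N u w ∧ ¬ Γ.md u ≤ Γ.core w})
      ⟨N, u, w, hn, hc⟩
    rw [show sInf {N | ∃ u w, Γ.Near N u w ∧ ¬ Γ.md u ≤ Γ.core w} = 0 from h] at h1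
    exact h2 ((show u' = w' from h1) ▸ Γ.md_le u')
  · exact h

section window

variable {N : ℕ} (π : Γ.Path N) {i : ℕ} (hb : 0 < Γ.b) (hi : i + Γ.b ≤ N)
  (hc : ¬ Γ.md (π.w i) ≤ Γ.core (π.w (i + Γ.b)))

include hb hi in
theorem Amal.md_le_first : Γ.md (π.w (i + Γ.b)) ≤ π.e i := by
  refine (Γ.md_le_core (Γ.near_symm (π.near (i := i + 1) (by omega) hi)) (by omega)).trans ?_
  exact Γ.core_le _ _ (π.mem i (by omega)) (π.right i (by omega))

include hb hi in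
theorem Amal.md_le_last : Γ.md (π.w i) ≤ π.e (i + Γ.b - 1) := by
  refine (Γ.md_le_core (π.near (i := i) (j := i + Γ.b - 1) (by omega) (by omega)) (by omega)).trans ?_
  exact Γ.core_le _ _ (π.mem _ (by omega)) (π.left _ (by omega))

include hb hi hc in
theorem Amal.crit_rev : ¬ Γ.md (π.w (i + Γ.b)) ≤ Γ.core (π.w i) := fun hle => hc fun x hx => by
  have h := π.right (i + Γ.b - 1) (by omega)
  rw [show i + Γ.b - 1 + 1 = i + Γ.b by omega] at h
  exact Γ.cent_md _ _ (π.mem _ (by omega)) h x (Γ.md_le_last π hb hi hx)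
    fun y hy => (Γ.md_comm _ y (hle hy) x hx).symm

include hb hi in
theorem Amal.commutator_ctr {x y : 𝕏} (hx : x ∈ Γ.md (π.w i)) (hy : y ∈ Γ.md (π.w (i + Γ.b))) :
    ⁅x, y⁆ ∈ ctr (π.e i) ⊓ ctr (π.e (i + Γ.b - 1)) := by
  have h := π.right (i + Γ.b - 1) (by omega)
  rw [show i + Γ.b - 1 + 1 = i + Γ.b by omega] at h
  refine ⟨?_, Γ.comm_ctr _ _ (π.mem _ (by omega)) h x (Γ.md_le_last π hb hi hx) y hy⟩
  show ⁅x, y⁆ ∈ ctr (π.e i)
  rw [← commutatorElement_inv]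
  exact inv_mem (Γ.comm_ctr _ _ (π.mem i (by omega)) (π.left i (by omega)) y (Γ.md_le_first π hb hi hy) x hx)

end window

theorem Amal.fill {v u : ν} {P : Subgroup 𝕏} (hP : P ∈ Γ.edges) (hv : P ≤ Γ.grp v) (hu : Γ.md u ≤ P)
    {P' : Subgroup 𝕏} (hP' : P' ∈ Γ.edges) (hu' : P' ≤ Γ.grp u) (hv' : Γ.md v ≤ P')
    (hn : ¬ Γ.md v ≤ Γ.core u) (hq' : Γ.qv v ≤ Γ.qv u) : P = Γ.md u ⊔ Γ.core v := by
  haveI := Γ.finite v
  haveI : Finite ↥P := Finite.of_injective _ (Subgroup.inclusion_injective hv)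
  have hQP := Γ.core_le v P hP hv
  refine le_antisymm ?_ (sup_le hu hQP)
  obtain ⟨s, hs, hsQ⟩ := SetLike.not_le_iff_exists.1 hn
  have h1 : Γ.core v ⊓ Γ.md u ≤ ctr P' := fun y hy =>
    Γ.fix_le u P' hP' hu' s (hv' hs) hsQ y hy.2 (Γ.md_comm v y hy.1 s hs).symm
  have hne : ∀ {H L : Subgroup 𝕏}, L ≤ P → H.relIndex L ≠ 0 := fun {H L} hL => by
    haveI : Finite ↥L := Finite.of_injective _ (Subgroup.inclusion_injective hL)
    exact index_ne_zero_of_finite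
  have hq : Γ.qv u = (ctr P').relIndex (Γ.md u) := (Γ.md_index u P' hP' hu').symm
  have h2 : Γ.qv v ≤ (Γ.core v).relIndex (Γ.md u ⊔ Γ.core v) := by
    refine le_trans ?_ (relIndex_le_of_le_right le_sup_left (hne (sup_le hu hQP)))
    rw [← inf_relIndex_right (Γ.core v)]
    exact (hq'.trans hq.le).trans (relIndex_le_of_le_left h1 (hne hu))
  have h3 := relIndex_mul_relIndex (Γ.core v) (Γ.md u ⊔ Γ.core v) P le_sup_right (sup_le hu hQP)
  rw [Γ.core_index v P hP hv] at h3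
  have hq0 : Γ.qv v ≠ 0 := by rw [← Γ.core_index v P hP hv]; exact hne le_rfl
  have h4 : (Γ.md u ⊔ Γ.core v).relIndex P ≤ 1 := by
    by_contra hgt
    push Not at hgt
    nlinarith [Nat.pos_of_ne_zero hq0]
  have h5 : (Γ.md u ⊔ Γ.core v).relIndex P ≠ 0 := hne le_rfl
  exact relIndex_eq_one.1 (by omega)

/-- Of two vertices whose modules leave each other's core, the field sizes are comparable. -/
theorem Amal.qv_le {v u : ν} {P : Subgroup 𝕏} (hP : P ∈ Γ.edges) (hv : P ≤ Γ.grp v) (hu : Γ.md u ≤ P)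
    {P' : Subgroup 𝕏} (hP' : P' ∈ Γ.edges) (hu' : P' ≤ Γ.grp u) (hv' : Γ.md v ≤ P')
    (hn : ¬ Γ.md v ≤ Γ.core u) : Γ.qv u ≤ Γ.qv v := by
  haveI := Γ.finite v
  haveI : Finite ↥P := Finite.of_injective _ (Subgroup.inclusion_injective hv)
  haveI : Finite ↥(Γ.md u) := Finite.of_injective _ (Subgroup.inclusion_injective hu)
  obtain ⟨s, hs, hsQ⟩ := SetLike.not_le_iff_exists.1 hn
  have h1 : Γ.core v ⊓ Γ.md u ≤ ctr P' := fun y hy =>
    Γ.fix_le u P' hP' hu' s (hv' hs) hsQ y hy.2 (Γ.md_comm v y hy.1 s hs).symm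
  rw [← Γ.md_index u P' hP' hu', ← Γ.core_index v P hP hv]
  refine (relIndex_le_of_le_left h1 index_ne_zero_of_finite).trans ?_
  rw [inf_relIndex_right]
  exact relIndex_le_of_le_right hu index_ne_zero_of_finite

section window2

variable {N : ℕ} (π : Γ.Path N) {i : ℕ} (hb : 0 < Γ.b) (hi : i + Γ.b ≤ N)
  (hc : ¬ Γ.md (π.w i) ≤ Γ.core (π.w (i + Γ.b)))

include hb hi hc in
theorem Amal.first_eq : π.e i = Γ.md (π.w (i + Γ.b)) ⊔ Γ.core (π.w i) := by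
  have h := π.right (i + Γ.b - 1) (by omega)
  rw [show i + Γ.b - 1 + 1 = i + Γ.b by omega] at h
  exact Γ.fill (π.mem i (by omega)) (π.left i (by omega)) (Γ.md_le_first π hb hi) (π.mem _ (by omega)) h
    (Γ.md_le_last π hb hi) hc (Γ.qv_le (π.mem _ (by omega)) h (Γ.md_le_last π hb hi) (π.mem i (by omega))
      (π.left i (by omega)) (Γ.md_le_first π hb hi) (Γ.crit_rev π hb hi hc))

include hb hi hc in
theorem Amal.last_eq : π.e (i + Γ.b - 1) = Γ.md (π.w i) ⊔ Γ.core (π.w (i + Γ.b)) := by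
  have h := π.right (i + Γ.b - 1) (by omega)
  rw [show i + Γ.b - 1 + 1 = i + Γ.b by omega] at h
  exact Γ.fill (π.mem _ (by omega)) h (Γ.md_le_last π hb hi) (π.mem i (by omega)) (π.left i (by omega))
    (Γ.md_le_first π hb hi) (Γ.crit_rev π hb hi hc) (Γ.qv_le (π.mem i (by omega)) (π.left i (by omega))
      (Γ.md_le_first π hb hi) (π.mem _ (by omega)) h (Γ.md_le_last π hb hi) hc)

include hb hi hc in
theorem Amal.qv_eq : Γ.qv (π.w i) = Γ.qv (π.w (i + Γ.b)) := by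
  have h := π.right (i + Γ.b - 1) (by omega)
  rw [show i + Γ.b - 1 + 1 = i + Γ.b by omega] at h
  exact le_antisymm
    (Γ.qv_le (π.mem _ (by omega)) h (Γ.md_le_last π hb hi) (π.mem i (by omega)) (π.left i (by omega))
      (Γ.md_le_first π hb hi) (Γ.crit_rev π hb hi hc))
    (Γ.qv_le (π.mem i (by omega)) (π.left i (by omega)) (Γ.md_le_first π hb hi) (π.mem _ (by omega)) h
      (Γ.md_le_last π hb hi) hc)

end window2

/-- Members of a subgroup product with a normalised factor. -/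
theorem Amal.exists_mul {v : ν} {H : Subgroup 𝕏} (hH : H ≤ Γ.grp v) {x : 𝕏} (hx : x ∈ H ⊔ Γ.core v) :
    ∃ y ∈ H, ∃ z ∈ Γ.core v, x = y * z := by
  rw [← SetLike.mem_coe, coe_mul_of_left_le_normalizer_right H (Γ.core v) (hH.trans (Γ.core_norm v))] at hx
  obtain ⟨y, hy, z, hz, rfl⟩ := Set.mem_mul.1 hx
  exact ⟨y, hy, z, hz, rfl⟩

/-- The modules at an edge. -/
def Amal.nb (Γ : Amal 𝕏 ν p) (P : Subgroup 𝕏) : Subgroup 𝕏 := ⨆ u : {u : ν // P ≤ Γ.grp u}, Γ.md u.1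

/-- A vertex whose group normalises the modules at each of its edges. -/
def Amal.Fixed (Γ : Amal 𝕏 ν p) (v : ν) : Prop :=
  ∀ P ∈ Γ.edges, P ≤ Γ.grp v → Γ.grp v ≤ normalizer (Γ.nb P : Set 𝕏)

theorem Amal.md_le_nb {u : ν} {P : Subgroup 𝕏} (hu : P ≤ Γ.grp u) : Γ.md u ≤ Γ.nb P :=
  le_iSup_of_le ⟨u, hu⟩ le_rfl

theorem Amal.nb_conj (a : 𝕏) (P : Subgroup 𝕏) : Γ.nb (conjSub a P) = conjSub a (Γ.nb P) := by
  have key : ∀ (b : 𝕏) (R : Subgroup 𝕏), conjSub b (Γ.nb R) ≤ Γ.nb (conjSub b R) := fun b R => by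
    rw [Amal.nb, conjSub, Subgroup.map_iSup]
    refine iSup_le fun u => ?_
    refine le_iSup_of_le ⟨Γ.act b u.1, by rw [Γ.grp_act]; exact conjSub_mono b u.2⟩ ?_
    exact (Γ.md_act b u.1).ge
  refine le_antisymm ?_ (key a P)
  have h1 := conjSub_mono a (key a⁻¹ (conjSub a P))
  rwa [CfsgLib.Fusion.conjSub_conjSub, mul_inv_cancel, CfsgLib.Fusion.conjSub_one,
    CfsgLib.Fusion.conjSub_conjSub, inv_mul_cancel, CfsgLib.Fusion.conjSub_one] at h1

theorem Amal.fixed_of_one {v : ν} {P : Subgroup 𝕏} (hP : P ∈ Γ.edges) (hv : P ≤ Γ.grp v)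
    (h : Γ.grp v ≤ normalizer (Γ.nb P : Set 𝕏)) : Γ.Fixed v := by
  intro P' hP' hv'
  obtain ⟨g, hg, rfl⟩ := Γ.edge_trans v P hP hv P' hP' hv'
  rwa [Γ.nb_conj, CfsgLib.Fusion.conjSub_eq_iff_mem_normalizer.2 (h hg)]

theorem Amal.Fixed.nb_eq {v : ν} (h : Γ.Fixed v) {P P' : Subgroup 𝕏} (hP : P ∈ Γ.edges) (hv : P ≤ Γ.grp v)
    (hP' : P' ∈ Γ.edges) (hv' : P' ≤ Γ.grp v) : Γ.nb P' = Γ.nb P := by
  obtain ⟨g, hg, rfl⟩ := Γ.edge_trans v P hP hv P' hP' hv'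
  rw [Γ.nb_conj, CfsgLib.Fusion.conjSub_eq_iff_mem_normalizer.2 (h P hP hv hg)]

/-- The second vertex of a critical path moves the modules at its edges. -/
theorem Amal.second_not_fixed (hb : 2 ≤ Γ.b) {N : ℕ} (π : Γ.Path N) (hN : Γ.b ≤ N)
    (hc : ¬ Γ.md (π.w 0) ≤ Γ.core (π.w Γ.b)) : ¬ Γ.Fixed (π.w 1) := by
  intro h
  have e := h.nb_eq (π.mem 1 (by omega)) (π.left 1 (by omega)) (π.mem 0 (by omega)) (π.right 0 (by omega))
  refine hc ((Γ.md_le_nb (π.left 0 (by omega))).trans (e.le.trans (iSup_le fun u => ?_)))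
  have h1 : Γ.Adj u.1 (π.w 2) := ⟨π.e 1, π.mem 1 (by omega), u.2, π.right 1 (by omega)⟩
  exact Γ.md_le_core (Γ.near_trans (Γ.near_one h1) (π.near (i := 2) hb hN)) (by omega)

/-- Critical paths may be started at a vertex which is not fixed. -/
def Amal.NoEnd (Γ : Amal 𝕏 ν p) : Prop :=
  ∀ (N : ℕ) (π : Γ.Path N), Γ.b ≤ N → ¬ Γ.md (π.w 0) ≤ Γ.core (π.w Γ.b) →
    ∃ u, π.e 0 ≤ Γ.grp u ∧ ¬ Γ.Fixed u ∧ ¬ Γ.md u ≤ Γ.core (π.w Γ.b)

theorem Amal.shift (hb : 0 < Γ.b) {N : ℕ} (π : Γ.Path N) (hN : Γ.b ≤ N)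
    (hc : ¬ Γ.md (π.w 0) ≤ Γ.core (π.w Γ.b)) {f : Subgroup 𝕏} (hf : f ∈ Γ.edges) (hfv : f ≤ Γ.grp (π.w 0))
    (hne : ctr f ≠ ctr (π.e 0)) (hmov : ¬ Γ.Fixed (π.w 0)) :
    ∃ u, f ≤ Γ.grp u ∧ ¬ Γ.md u ≤ Γ.core (π.w (Γ.b - 1)) := by
  by_contra hall
  push Not at hall
  set U := ⨆ u : {u : ν // f ≤ Γ.grp u}, Γ.md u.1 with hU
  have hUQ : U ≤ Γ.core (π.w (Γ.b - 1)) := iSup_le fun u => hall u.1 u.2
  have hi : 0 + Γ.b ≤ N := by omega
  have hc' : ¬ Γ.md (π.w 0) ≤ Γ.core (π.w (0 + Γ.b)) := by rwa [Nat.zero_add]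
  have hlast := Γ.last_eq π hb hi hc'
  have hfirst := Γ.first_eq π hb hi hc'
  rw [Nat.zero_add] at hlast hfirst
  have hVU : Γ.md (π.w 0) ≤ U := le_iSup_of_le ⟨π.w 0, hfv⟩ le_rfl
  have hnorm : Γ.md (π.w Γ.b) ≤ normalizer (U : Set 𝕏) := by
    have hle : ∀ c ∈ Γ.md (π.w Γ.b), ∀ x ∈ U, ⁅c, x⁆ ∈ U := by
      intro c hc2 x hx
      have hx' : x ∈ π.e (Γ.b - 1) :=
        Γ.core_le _ _ (π.mem _ (by omega)) (π.left _ (by omega)) (hUQ hx)
      rw [hlast] at hx'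
      have hH : Γ.md (π.w 0) ≤ Γ.grp (π.w Γ.b) := by
        have h1 := π.right (Γ.b - 1) (by omega)
        rw [show Γ.b - 1 + 1 = Γ.b by omega] at h1
        refine le_trans ?_ h1
        rw [hlast]
        exact le_sup_left
      obtain ⟨v, hv, z, hz, rfl⟩ := Γ.exists_mul hH hx'
      have h0 : ⁅c, v * z⁆ = ⁅c, v⁆ := by
        rw [show ⁅c, v * z⁆ = ⁅c, v⁆ * (v * ⁅c, z⁆ * v⁻¹) by simp only [commutatorElement_def]; group,
          commutatorElement_eq_one_iff_mul_comm.2 (Γ.md_comm _ z hz c hc2).symm]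
        group
      rw [h0, ← commutatorElement_inv]
      refine inv_mem (hVU (Γ.ctr_le _ _ (π.mem 0 (by omega)) (π.left 0 (by omega)) ?_))
      exact (Γ.commutator_ctr π hb hi hv (by rwa [Nat.zero_add])).1
    intro c hc2
    refine mem_normalizer_iff.2 fun x => ⟨fun hx => ?_, fun hx => ?_⟩
    · rw [show c * x * c⁻¹ = ⁅c, x⁆ * x by simp [commutatorElement_def]]
      exact mul_mem (hle c hc2 x hx) hx
    · rw [show x = ⁅c⁻¹, c * x * c⁻¹⁆ * (c * x * c⁻¹) by simp only [commutatorElement_def]; group]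
      exact mul_mem (hle c⁻¹ (inv_mem hc2) _ hx) hx
  have hfnorm : f ≤ normalizer (U : Set 𝕏) := by
    intro s hs
    refine mem_normalizer_iff_map_conj_eq.2 ?_
    rw [hU, Subgroup.map_iSup]
    exact iSup_congr fun u => mem_normalizer_iff_map_conj_eq.1 (Γ.md_norm u.1 (u.2 hs))
  refine hmov (Γ.fixed_of_one hf hfv ((Γ.gen _ f hf hfv _ (π.mem 0 (by omega)) (π.left 0 (by omega)) hne).trans
    (sup_le hfnorm ?_)))
  rw [hfirst]
  exact sup_le hnorm ((Γ.core_le _ f hf hfv).trans hfnorm)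

theorem Amal.exists_geo (hbad : Γ.Bad) (hend : Γ.NoEnd) (N : ℕ) :
    ∃ g : Γ.Geo N, ¬ Γ.Fixed (g.w 0) := by
  have hb := Γ.b_pos hbad
  -- replace the start of a path
  have start : ∀ {M : ℕ} (π : Γ.Path (M + Γ.b)), (∀ i ≤ M, ¬ Γ.md (π.w i) ≤ Γ.core (π.w (i + Γ.b))) →
      (∀ i < M, ctr (π.e i) ≠ ctr (π.e (i + 1))) → ∃ g : Γ.Geo M, ¬ Γ.Fixed (g.w 0) := by
    intro M π hcrit hturn
    obtain ⟨u, hu, hfix, hcu⟩ := hend (M + Γ.b) π (by omega) (by simpa using hcrit 0 (Nat.zero_le _))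
    refine ⟨⟨⟨fun i => if i = 0 then u else π.w i, π.e, π.mem, fun i hi => ?_, fun i hi => ?_⟩,
      fun i hi => ?_, hturn⟩, ?_⟩
    · show π.e i ≤ Γ.grp (if i = 0 then u else π.w i)
      split_ifs with h
      · exact h ▸ hu
      · exact π.left i hi
    · show π.e i ≤ Γ.grp (if i + 1 = 0 then u else π.w (i + 1))
      rw [if_neg (Nat.succ_ne_zero i)]
      exact π.right i hi
    · show ¬ Γ.md (if i = 0 then u else π.w i) ≤ Γ.core (if i + Γ.b = 0 then u else π.w (i + Γ.b))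
      rw [if_neg (show i + Γ.b ≠ 0 by omega)]
      split_ifs with h
      · rw [h, Nat.zero_add]; exact hcu
      · exact hcrit i hi
    · exact hfix
  induction N with
  | zero =>
    obtain ⟨M, u, w, hn, hc⟩ := hbad
    obtain ⟨u', w', h1, h2⟩ := Nat.sInf_mem (s := {N | ∃ u w, Γ.Near N u w ∧ ¬ Γ.md u ≤ Γ.core w})
      ⟨M, u, w, hn, hc⟩
    obtain ⟨π, e0, eb⟩ := Γ.exists_path (N := Γ.b) h1
    refine start ⟨π.w, π.e, fun i hi => π.mem i (by omega), fun i hi => π.left i (by omega),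
      fun i hi => π.right i (by omega)⟩ (fun i hi => ?_) (fun i hi => absurd hi (by omega))
    obtain rfl : i = 0 := by omega
    show ¬ Γ.md (π.w 0) ≤ Γ.core (π.w (0 + Γ.b))
    rw [Nat.zero_add, e0, eb]
    exact h2
  | succ N ih =>
    obtain ⟨g, hmov⟩ := ih
    have h0 : ¬ Γ.md (g.w 0) ≤ Γ.core (g.w Γ.b) := by simpa using g.crit 0 (Nat.zero_le _)
    obtain ⟨a, ha, hne⟩ := Γ.other (g.w 0) (g.e 0) (g.mem 0 (by omega)) (g.left 0 (by omega))
    set f := conjSub a (g.e 0) with hf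
    have hfe : f ∈ Γ.edges := Γ.edge_conj a _ (g.mem 0 (by omega))
    have hfv : f ≤ Γ.grp (g.w 0) := by
      rw [← Γ.act_self (g.w 0) a ha, Γ.grp_act]
      exact conjSub_mono a (g.left 0 (by omega))
    obtain ⟨u, hu, hcu⟩ := Γ.shift hb g.toPath (by omega) h0 hfe hfv hne hmov
    refine start ⟨fun i => i.casesOn u g.w, fun i => i.casesOn f g.e, fun i hi => ?_, fun i hi => ?_,
      fun i hi => ?_⟩ (fun i hi => ?_) (fun i hi => ?_)
    · cases i with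
      | zero => exact hfe
      | succ j => exact g.mem j (by omega)
    · cases i with
      | zero => exact hu
      | succ j => exact g.left j (by omega)
    · cases i with
      | zero => exact hfv
      | succ j => exact g.right j (by omega)
    · cases i with
      | zero =>
        have e : (0 : ℕ) + Γ.b = Γ.b - 1 + 1 := by omega
        rw [e]
        exact hcu
      | succ j =>
        have e : j + 1 + Γ.b = j + Γ.b + 1 := by omega
        rw [e]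
        exact g.crit j (by omega)
    · cases i with
      | zero => exact hne
      | succ j => exact g.turn j (by omega)

end CfsgLib.LocalEven.PairUp
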