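import Cfsg.Agent.Lib.LocalEven.PairUp.Word
import Cfsg.Agent.Lib.OddLocal.ActionTools

/-!
One member: characteristic subgroups of the centre meet `[S, vS]`; the measure.
-/

set_option autoImplicit false

namespace CfsgLib.LocalEven.PairUp

open Cfsg Subgroup
open CfsgLib.LocalEven.RankOne
open CfsgLib.LocalEven.PushUp
open scoped commutatorElement

variable {G : Type*} [Group G] [Finite G] {p n : ℕ} [hp : Fact p.Prime]
variable {S : Sylow p G} {K : Subgroup G} [K.Normal]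

omit [Finite G] hp in
theorem zS_conj_mem {g : G} (hg : g ∈ normalizer ((S : Subgroup G) : Set G)) {x : G} (hx : x ∈ zS S) :
    g * x * g⁻¹ ∈ zS S := by
  refine ⟨(mem_normalizer_iff.1 hg x).1 hx.1, mem_centralizer_iff.2 fun y hy => ?_⟩
  have h1 := mem_centralizer_iff.1 hx.2 _ ((mem_normalizer_iff''.1 hg y).1 hy)
  calc y * (g * x * g⁻¹) = g * (g⁻¹ * y * g * x) * g⁻¹ := by group
    _ = g * (x * (g⁻¹ * y * g)) * g⁻¹ := by rw [h1]
    _ = g * x * g⁻¹ * y := by group

omit hp in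
theorem conj_mem_of_characteristic (T : Subgroup ↥(S : Subgroup G)) [T.Characteristic] {g : G}
    (hg : g ∈ normalizer ((S : Subgroup G) : Set G)) {x : G} (hx : x ∈ T.map (S : Subgroup G).subtype) :
    g * x * g⁻¹ ∈ T.map (S : Subgroup G).subtype :=
  (mem_normalizer_iff.1 (CfsgLib.OddLocal.normalizer_le_normalizer_map_characteristic T hg) x).1 hx

/-- For `q > 2` no non-central element of the centre is fixed by the normaliser of `S`. -/
theorem exists_move (m : MemHyp n S K) (hq : 2 < p ^ n) {x : G} (hx : x ∈ zS S) (hxc : x ∉ center G) :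
    ∃ g ∈ normalizer ((S : Subgroup G) : Set G), g * x ≠ x * g := by
  classical
  haveI : Fintype (GaloisField p n) := Fintype.ofFinite _
  have hn0 : n ≠ 0 := Nat.one_le_iff_ne_zero.1 m.hyp.pos
  have hF : Fintype.card (GaloisField p n) = p ^ n := by
    rw [← Nat.card_eq_fintype_card, GaloisField.card p n hn0]
  have h := m.hyp
  have f := m.facts (GaloisField p n) hF
  set V := vS S with hV
  set Z₀ := vS S ⊓ center G with hZ₀
  haveI : Z₀.Normal := normal_of_le_center inf_le_right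
  set π := QuotientGroup.mk' Z₀ with hπ
  have hmk : ∀ {y}, π y = 1 ↔ y ∈ Z₀ := QuotientGroup.eq_one_iff _
  have hxV : x ∈ V := zS_le_vS S hx
  have hx0 : x ∉ Z₀ := fun h' => hxc h'.2
  obtain ⟨-, ρ, ψ, hsur, -, hact⟩ := f.sec.natural
  set x' : ↥(V.map π) := ⟨π x, x, hxV, rfl⟩ with hx'
  set v := ψ (Additive.ofMul x') with hv
  have hv0 : v ≠ 0 := fun e => hx0 (hmk.1 (congrArg (fun z => ((Additive.toMul z : ↥(V.map π)) : G ⧸ Z₀))
    (ψ.map_eq_zero_iff.1 e)))
  obtain ⟨l, hl0, hl1⟩ : ∃ l : GaloisField p n, l ≠ 0 ∧ l ≠ 1 := by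
    obtain ⟨l, -, hl⟩ := Finset.exists_mem_notMem_of_card_lt_card
      (show ({0, 1} : Finset (GaloisField p n)).card < (Finset.univ : Finset (GaloisField p n)).card by
        rw [Finset.card_univ, hF]
        exact Finset.card_le_two.trans_lt hq)
    simp only [Finset.mem_insert, Finset.mem_singleton, not_or] at hl
    exact ⟨l, hl⟩
  obtain ⟨B, hB⟩ : ∃ B : Matrix.SpecialLinearGroup (Fin 2) (GaloisField p n),
      (B : Matrix (Fin 2) (Fin 2) (GaloisField p n)).mulVec v = l • v := by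
    by_cases h0 : v 0 = 0
    · have h1 : v 1 ≠ 0 := fun h1 => hv0 (funext fun i => by fin_cases i <;> assumption)
      refine ⟨⟨!![l⁻¹, 0; 0, l], by simp [Matrix.det_fin_two, hl0]⟩, funext fun i => ?_⟩
      fin_cases i <;> simp [Matrix.mulVec, dotProduct, Fin.sum_univ_two, h0]
    · refine ⟨⟨!![l, 0; (l - l⁻¹) * v 1 / v 0, l⁻¹], by simp [Matrix.det_fin_two, hl0]⟩, funext fun i => ?_⟩
      fin_cases i <;> simp [Matrix.mulVec, dotProduct, Fin.sum_univ_two]
      field_simp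
      ring
  obtain ⟨gl, hgl⟩ := hsur B
  obtain ⟨g, hg⟩ := QuotientGroup.mk'_surjective Z₀ (gl : G ⧸ Z₀)
  have hgx : g * x * g⁻¹ ∈ V := (vS_normal S).conj_mem x hxV g
  obtain ⟨w, hw, hwv⟩ := hact gl x'
  rw [hgl, hB] at hwv
  have hwx : (w : G ⧸ Z₀) = π (g * x * g⁻¹) := by rw [hw, map_mul, map_mul, map_inv, hπ, hg]
  have hne : π (g * x * g⁻¹) ≠ π x := by
    intro e
    have hwx' : w = x' := Subtype.ext (hwx.trans e)
    rw [hwx', ← hv] at hwv
    exact hl1 (smul_left_injective (GaloisField p n) hv0 (show l • v = (1 : GaloisField p n) • v by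
      rw [one_smul, ← hwv]))
  have hfix : g * x * g⁻¹ ∈ zS S := by
    rw [← f.fix_eq]
    refine ⟨hgx, fun s hs => ?_⟩
    set sl : ↥(⊤ : Subgroup (G ⧸ Z₀)) := ⟨π s, mem_top _⟩ with hsl
    obtain ⟨w₁, hw₁, hw₁v⟩ := hact sl x'
    obtain ⟨w₂, hw₂, hw₂v⟩ := hact sl w
    have h1 : w₁ = x' := by
      refine Subtype.ext (hw₁.trans ?_)
      show π s * π x * (π s)⁻¹ = π x
      rw [← map_inv, ← map_mul, ← map_mul, mem_centralizer_iff.1 hx.2 s hs, mul_inv_cancel_right]
    rw [h1, ← hv] at hw₁v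
    rw [hwv, Matrix.mulVec_smul, ← hw₁v, ← hwv] at hw₂v
    have h2 : (w₂ : G ⧸ Z₀) = w := congrArg Subtype.val (Additive.ofMul.injective (ψ.injective hw₂v))
    rw [hw₂, hwx, hsl] at h2
    refine hmk.1 ?_
    rw [map_commutatorElement, commutatorElement_def]
    exact mul_inv_eq_one.2 h2
  have hgM : g ∈ topMax h := by
    by_contra hgn
    exact hx0 (f.sec.disjoint g hgn x (f.fix_eq.ge hx) (f.fix_eq.ge hfix))
  -- the part of the stabiliser centralising the fixed points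
  let C : Subgroup G :=
    { carrier := {c | c ∈ topMax h ∧ ∀ y ∈ zS S, π c * π y = π y * π c}
      one_mem' := ⟨one_mem _, fun y _ => by simp⟩
      mul_mem' := fun {a b} ha hb => ⟨mul_mem ha.1 hb.1, fun y hy => by
        rw [map_mul]
        exact ((show Commute (π a) (π y) from ha.2 y hy).mul_left (hb.2 y hy)).eq⟩
      inv_mem' := fun {a} ha => ⟨inv_mem ha.1, fun y hy => by
        rw [map_inv]
        exact (show Commute (π a) (π y) from ha.2 y hy).inv_left.eq⟩ }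
  have hSC : (S : Subgroup G) ≤ C := fun s hs => ⟨le_topMax h hs, fun y hy => by
    rw [← map_mul, ← map_mul, mem_centralizer_iff.1 hy.2 s hs]⟩
  have hgSC : ((g • S : Sylow p G) : Subgroup G) ≤ C := by
    intro c hc
    rw [Sylow.coe_subgroup_smul] at hc
    obtain ⟨s, hs, rfl⟩ := hc
    show g * s * g⁻¹ ∈ C
    refine ⟨mul_mem (mul_mem hgM (le_topMax h hs)) (inv_mem hgM), fun y hy => ?_⟩
    have hy' : g⁻¹ * y * g ∈ zS S := by
      have := (f.sec.stab g⁻¹).1 (inv_mem hgM) y (f.fix_eq.ge hy)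
      rw [inv_inv] at this
      exact f.fix_eq.le this
    have h1 := (hSC hs).2 _ hy'
    simp only [map_mul, map_inv] at h1 ⊢
    calc π g * π s * (π g)⁻¹ * π y = π g * (π s * ((π g)⁻¹ * π y * π g)) * (π g)⁻¹ := by group
      _ = π g * ((π g)⁻¹ * π y * π g * π s) * (π g)⁻¹ := by rw [h1]
      _ = _ := by group
  obtain ⟨c, hc⟩ := MulAction.exists_smul_eq ↥C (S.subtype hSC) ((g • S).subtype hgSC)
  rw [Sylow.smul_subtype] at hc
  have hcg : (c : G) • S = g • S := Sylow.subtype_injective hc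
  refine ⟨(c : G)⁻¹ * g, Sylow.smul_eq_iff_mem_normalizer.1 (by rw [mul_smul, ← hcg, inv_smul_smul]), fun e => hne ?_⟩
  have h1 : g * x * g⁻¹ = (c : G) * x * (c : G)⁻¹ := by
    calc g * x * g⁻¹ = (c : G) * ((c : G)⁻¹ * g * x) * g⁻¹ := by group
      _ = _ := by rw [e]; group
  rw [h1, map_mul, map_mul, map_inv, c.2.2 x hx, mul_inv_cancel_right]

omit [Finite G] hp in
theorem comm_conj_mem {g : G} (hg : g ∈ normalizer ((S : Subgroup G) : Set G)) {y : G}
    (hy : y ∈ ⁅(S : Subgroup G), vS S⁆) : g * y * g⁻¹ ∈ ⁅(S : Subgroup G), vS S⁆ := by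
  have hle : (⁅(S : Subgroup G), vS S⁆ : Subgroup G).map (MulAut.conj g).toMonoidHom ≤
      ⁅(S : Subgroup G), vS S⁆ := by
    rw [map_commutator]
    refine commutator_mono ?_ ?_
    · rintro _ ⟨s, hs, rfl⟩
      exact (mem_normalizer_iff.1 hg s).1 hs
    · rintro _ ⟨v, hv, rfl⟩
      exact (vS_normal S).conj_mem v hv g
  exact hle ⟨y, hy, rfl⟩

/-- For `q > 2` a non-central subgroup of the centre invariant in `S` meets `[S, vS]`. -/
theorem meet_torus (m : MemHyp n S K) (hq : 2 < p ^ n) {X : Subgroup G} (hX : X ≤ zS S)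
    (hn : ∀ g ∈ normalizer ((S : Subgroup G) : Set G), ∀ x ∈ X, g * x * g⁻¹ ∈ X) (hnc : ¬ X ≤ center G) :
    X ⊓ ⁅(S : Subgroup G), vS S⁆ ≠ ⊥ := by
  classical
  haveI : Fintype (GaloisField p n) := Fintype.ofFinite _
  have hF : Fintype.card (GaloisField p n) = p ^ n := by
    rw [← Nat.card_eq_fintype_card, GaloisField.card p n (Nat.one_le_iff_ne_zero.1 m.hyp.pos)]
  have f := m.facts (GaloisField p n) hF
  obtain ⟨x, hx, hxc⟩ := SetLike.not_le_iff_exists.1 hnc
  obtain ⟨g, hg, hgx⟩ := exists_move m hq (hX hx) hxc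
  intro hbot
  have h1 : ⁅g, x⁆ ∈ X := by
    rw [commutatorElement_def]
    exact mul_mem (hn g hg x hx) (inv_mem hx)
  obtain ⟨u, hu, huz⟩ : ∃ u ∈ vS S, u ∉ zS S := SetLike.not_le_iff_exists.1 fun hle => by
    have h1 := f.index
    rw [relIndex_eq_one.2 hle] at h1
    exact (Nat.one_lt_pow (Nat.one_le_iff_ne_zero.1 m.hyp.pos) hp.out.one_lt).ne h1
  obtain ⟨s, hs, hsx⟩ := f.sec.full u hu (fun h' => huz (f.fix_eq.le h')) x (f.fix_eq.ge (hX hx))
  set y := ⁅s, u⁆ with hy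
  have hyc : y ∈ ⁅(S : Subgroup G), vS S⁆ := commutator_mem_commutator hs hu
  have hyx : ∀ t : G, t * (y * x⁻¹) = (y * x⁻¹) * t := fun t => mem_center_iff.1 hsx.2 t
  have h2 : ⁅g, x⁆ = ⁅g, y⁆ := by
    have e : x = (y * x⁻¹)⁻¹ * y := by group
    have hz : Commute g (y * x⁻¹)⁻¹ := (show Commute g (y * x⁻¹) from hyx g).inv_right
    conv_lhs => rw [e]
    simp only [commutatorElement_def]
    calc g * ((y * x⁻¹)⁻¹ * y) * g⁻¹ * ((y * x⁻¹)⁻¹ * y)⁻¹
        = g * (y * x⁻¹)⁻¹ * (y * g⁻¹ * y⁻¹) * (y * x⁻¹) := by group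
      _ = (y * x⁻¹)⁻¹ * (g * (y * g⁻¹ * y⁻¹) * (y * x⁻¹)) := by rw [hz.eq]; group
      _ = (y * x⁻¹)⁻¹ * ((y * x⁻¹) * (g * (y * g⁻¹ * y⁻¹))) := by
          rw [hyx (g * (y * g⁻¹ * y⁻¹))]
      _ = g * y * g⁻¹ * y⁻¹ := by group
  have h3 : ⁅g, x⁆ ∈ ⁅(S : Subgroup G), vS S⁆ := by
    rw [h2, commutatorElement_def]
    exact mul_mem (comm_conj_mem hg hyc) (inv_mem hyc)
  have h4 : ⁅g, x⁆ ∈ (⊥ : Subgroup G) := hbot ▸ (⟨h1, h3⟩ : ⁅g, x⁆ ∈ X ⊓ ⁅(S : Subgroup G), vS S⁆)
  exact hgx (commutatorElement_eq_one_iff_mul_comm.1 (mem_bot.1 h4))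

/-- For `q = 2`, either the word meets the centre centrally or it contains `[S, vS]`. -/
theorem meet_two (m : MemHyp n S K) (hq : p ^ n = 2) (hnc : ¬ zS S ⊓ wordOf p (S : Subgroup G) ≤ center G) :
    ⁅(S : Subgroup G), vS S⁆ ≤ wordOf p (S : Subgroup G) := by
  classical
  have h := m.hyp
  have hp2 : p = 2 := (Nat.Prime.pow_eq_iff Nat.prime_two).1 hq |>.1
  have hn0 : n ≠ 0 := Nat.one_le_iff_ne_zero.1 h.pos
  haveI : Fintype (GaloisField p n) := Fintype.ofFinite _
  have hF : Fintype.card (GaloisField p n) = p ^ n := by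
    rw [← Nat.card_eq_fintype_card, GaloisField.card p n hn0]
  have f := m.facts (GaloisField p n) hF
  set Q := pCore p G with hQ
  have hQp : IsPGroup p Q := CfsgLib.Cores.isPGroup_pCore p
  have hQS : Q ≤ (S : Subgroup G) := CfsgLib.Cores.pCore_le_sylow S
  haveI hPn : (phiOf Q).Normal := ⟨fun x hx g => by
    have hgQ : Q.map (MulAut.conj g).toMonoidHom = Q :=
      CfsgLib.Fusion.conjSub_eq_iff_mem_normalizer.2 (by rw [normalizer_eq_top Q]; trivial)
    rw [← hgQ, ← phiOf_map (f := (MulAut.conj g).toMonoidHom) (MulAut.conj g).injective]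
    exact ⟨x, hx, rfl⟩⟩
  set π := QuotientGroup.mk' (phiOf Q) with hπ
  have hmk : ∀ {y}, π y = 1 ↔ y ∈ phiOf Q := QuotientGroup.eq_one_iff _
  have hQc : ∀ a ∈ Q, ∀ b ∈ Q, Commute (π a) (π b) := fun a ha b hb => by
    rw [commute_iff_eq, ← commutatorElement_eq_one_iff_mul_comm, ← map_commutatorElement, hmk]
    exact (le_phiOf hQp).1 (commutator_mem_commutator ha hb)
  have hmemQ : ∀ {a}, a ∈ (S : Subgroup G) → a ∈ K → a ∈ Q := fun ha hK => h.inf_eq.le ⟨ha, hK⟩
  have hidx : (K.subgroupOf (S : Subgroup G)).index = 2 := by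
    show K.relIndex (S : Subgroup G) = 2
    rw [h.relIndex, hq]
  have hsq : ∀ a ∈ (S : Subgroup G), a ^ 2 ∈ Q := fun a ha => by
    have := h.pow_mem ha
    rw [hp2] at this
    exact hmemQ (pow_mem ha 2) this
  have hcen : ∀ a ∈ (S : Subgroup G), ∀ b ∈ (S : Subgroup G), Commute (π (a ^ 2)) (π b) := by
    intro a ha b hb
    by_cases hbK : b ∈ K
    · exact hQc _ (hsq a ha) b (hmemQ hb hbK)
    by_cases haK : a ∈ K
    · have h1 : π (a ^ 2) = 1 := hmk.2 (by
        have := (le_phiOf hQp).2 a (hmemQ ha haK)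
        rwa [hp2] at this)
      rw [h1]
      exact Commute.one_left _
    have hab : a⁻¹ * b ∈ Q := by
      refine hmemQ (mul_mem (inv_mem ha) hb) ?_
      have h1 := (mul_mem_iff_of_index_two hidx (a := (⟨a, ha⟩⁻¹ : ↥(S : Subgroup G))) (b := ⟨b, hb⟩)).2
        (by simp [mem_subgroupOf, haK, hbK])
      exact h1
    have e : π b = π a * π (a⁻¹ * b) := by rw [← map_mul, mul_inv_cancel_left]
    rw [e]
    refine Commute.mul_right ?_ (hQc _ (hsq a ha) _ hab)
    rw [map_pow]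
    exact Commute.pow_self _ _
  set N := (S : Subgroup G) ⊓ (centralizer (π '' ((S : Subgroup G) : Set G))).comap π with hN
  have hsqN : ∀ a ∈ (S : Subgroup G), a ^ 2 ∈ N ⊓ Q := fun a ha => ⟨⟨pow_mem ha 2,
    mem_centralizer_iff.2 (by rintro _ ⟨b, hb, rfl⟩; exact (hcen a ha b hb).symm.eq)⟩, hsq a ha⟩
  have hcomm2 : ⁅(S : Subgroup G), (S : Subgroup G)⁆ ≤ N ⊓ Q := commutator_le.2 fun a ha b hb => by
    rw [show ⁅a, b⁆ = a ^ 2 * (a⁻¹ * b) ^ 2 * b⁻¹ ^ 2 by simp only [commutatorElement_def, pow_two]; group]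
    exact mul_mem (mul_mem (hsqN a ha) (hsqN _ (mul_mem (inv_mem ha) hb))) (hsqN _ (inv_mem hb))
  have hPhi : phiOf (S : Subgroup G) ≤ N ⊓ Q := phiOf_le (p := p) hcomm2 fun a ha => by
    have := hsqN a ha
    rwa [← hp2] at this
  have hword : wordOf p (S : Subgroup G) ≤ phiOf Q := by
    rw [wordOf, if_pos hp2]
    refine sup_le ((commutator_mono (hPhi.trans inf_le_left) le_rfl).trans (commutator_le.2 fun a ha b hb => ?_))
      (phiOf_mono hQp (hPhi.trans inf_le_right))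
    rw [← hmk, map_commutatorElement, commutatorElement_eq_one_iff_mul_comm]
    exact (mem_centralizer_iff.1 ha.2 _ ⟨b, hb, rfl⟩).symm
  set Z₀ := vS S ⊓ center G with hZ₀
  haveI : Z₀.Normal := normal_of_le_center inf_le_right
  obtain ⟨x, hx, hxc⟩ := SetLike.not_le_iff_exists.1 hnc
  obtain ⟨-, -, -, hch⟩ := f.sec.chief f.hypS
  have hV : phiOf Q ⊓ vS S ⊔ Z₀ = vS S := by
    refine (hch _ inferInstance le_sup_right (sup_le inf_le_right inf_le_left)).resolve_left fun e => hxc ?_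
    exact (e.le (mem_sup_left ⟨hword hx.2, zS_le_vS S hx.1⟩)).2
  refine commutator_le.2 fun s hs v hv => ?_
  rw [← hV, ← SetLike.mem_coe, normal_mul] at hv
  obtain ⟨w, hw, z, hz, rfl⟩ := hv
  rw [show ⁅s, w * z⁆ = ⁅s, w⁆ * (w * ⁅s, z⁆ * w⁻¹) by simp only [commutatorElement_def]; group,
    commutatorElement_eq_one_iff_mul_comm.2 (mem_center_iff.1 hz.2 s), mul_one, mul_inv_cancel, mul_one,
    wordOf, if_pos hp2, ← commutatorElement_inv w s]
  exact inv_mem (mem_sup_left (commutator_mem_commutator (phiOf_mono S.2 hQS hw.1) hs))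

/-- The measure of the core and the module. -/
theorem measure (m : MemHyp n S K) :
    Nat.card ↥(pCore p G) * Nat.card ↥(vS S) = Nat.card ↥(S : Subgroup G) * Nat.card ↥(zS S) := by
  haveI : Fintype (GaloisField p n) := Fintype.ofFinite _
  have hF : Fintype.card (GaloisField p n) = p ^ n := by
    rw [← Nat.card_eq_fintype_card, GaloisField.card p n (Nat.one_le_iff_ne_zero.1 m.hyp.pos)]
  have f := m.facts (GaloisField p n) hF
  have e1 := relIndex_mul_relIndex ⊥ (zS S) (vS S) bot_le (zS_le_vS S)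
  rw [relIndex_bot_left, relIndex_bot_left, f.index] at e1
  have e2 := relIndex_mul_relIndex ⊥ (pCore p G) (S : Subgroup G) bot_le (CfsgLib.Cores.pCore_le_sylow S)
  rw [relIndex_bot_left, relIndex_bot_left, ← m.hyp.inf_eq, inf_relIndex_left, m.hyp.relIndex, m.hyp.inf_eq] at e2
  rw [← e1, ← e2]
  ring

/-- When `J(P) = P` the whole group is centrally large. -/
theorem maxCentralProduct_of_top {P : Type*} [Group P] [Finite P] (hP : IsPGroup p P)
    (hJ : thompsonSubgroupA P = ⊤) : maxCentralProduct P = Nat.card P * Nat.card ↥(center P) := by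
  obtain ⟨Q, hQ⟩ := exists_centrallyLarge (G := P)
  have htop := CLNormal.isCentrallyLarge_sup_thompson hP hQ
  rw [hJ, sup_top_eq] at htop
  refine (show Nat.card ↥(⊤ : Subgroup P) * Nat.card ↥(center ↥(⊤ : Subgroup P)) = maxCentralProduct P
    from htop).symm.trans ?_
  rw [Subgroup.card_top,
    Nat.card_congr (Subgroup.centerCongr (Subgroup.topEquiv : (⊤ : Subgroup P) ≃* P)).toEquiv]

theorem measure_eq (m : MemHyp n S K) (hJ : thompsonSubgroupA ↥(S : Subgroup G) = ⊤) :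
    Nat.card ↥(pCore p G) * Nat.card ↥(vS S) = maxCentralProduct ↥(S : Subgroup G) := by
  rw [measure m, maxCentralProduct_of_top S.2 hJ, CfsgLib.LocalEven.card_center_eq]
  rfl

end CfsgLib.LocalEven.PairUp
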