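import Cfsg.Agent.Lib.LocalEven.PairUp.Select
import Cfsg.Agent.Lib.LocalEven.PairUp.Member

/-!
Two characteristic subgroups, one of which is normal in every pushing-up situation.
-/

set_option autoImplicit false

namespace CfsgLib.LocalEven.PairUp

open Cfsg Subgroup
open CfsgLib.LocalEven.RankOne
open CfsgLib.LocalEven.PushUp
open scoped commutatorElement

universe u

variable {p : ℕ} [hp : Fact p.Prime] {S₀ : Type u} [Group S₀]

/-- The pair, when `S = J(S)` has elementary centre and a non-trivial word subgroup. -/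
theorem exists_pair [Finite S₀] (hS : IsPGroup p S₀) (hJ : thompsonSubgroupA S₀ = ⊤)
    (hZ : ∀ x ∈ center S₀, x ^ p = 1) (hs0 : s0 p S₀ ≠ ⊥) :
    ∃ S₁ S₂ : Subgroup S₀, S₁ ≠ ⊥ ∧ S₂ ≠ ⊥ ∧ S₁.Characteristic ∧ S₂.Characteristic ∧ S₁ ≤ center S₀ ∧
      maxCentralProduct ↥S₂ = maxCentralProduct S₀ ∧
      ∀ (G : Type u) [Group G] [Finite G] (P : Subgroup G) (e : S₀ ≃* ↥P), Cfsg.IsPushingUpSituation p P →
        (S₁.map ((P.subtype).comp (e : S₀ ≃* ↥P).toMonoidHom)).Normal ∨
          (S₂.map ((P.subtype).comp (e : S₀ ≃* ↥P).toMonoidHom)).Normal := by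
  refine exists_pair_of hS hJ hZ hs0 (fun m hq X hX hn hbot => ?_) (fun m hq hnc => meet_two (m.mem m.P) hq hnc)
    fun m => ?_
  · by_contra hnc
    exact meet_torus (m.mem m.P) (by omega) hX
      (fun g hg x hx => (mem_normalizer_iff.1 (hn hg) x).1 hx) hnc hbot
  · rw [mul_comm, measure (m.mem m.P), maxCentralProduct_of_top hS hJ, ← map_center_eq_zS m.inj m.range,
      card_map_of_injective m.inj, m.range, ← Nat.card_congr (MonoidHom.ofInjective m.inj).toEquiv]

end CfsgLib.LocalEven.PairUp
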