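import Cfsg.Agent.Lib.LocalEven.PairUp.End
import Cfsg.Agent.Lib.LocalEven.PushUp.Overgroup

/-!
A family of members glued along the common `p`-group, with the automorphisms of that group as symmetries.
-/

set_option autoImplicit false

namespace CfsgLib.LocalEven.PairUp

open Cfsg Subgroup
open CfsgLib.LocalEven.RankOne
open CfsgLib.LocalEven.PushUp
open CfsgLib.Fusion (conjSub conjSub_mono mem_conjSub conjSub_conjSub conjSub_one conjSub_eq_iff_mem_normalizer)
open Monoid (PushoutI)
open scoped commutatorElement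

variable {S₀ : Type*} [Group S₀] {I : Type*} {G : I → Type*} [∀ i, Group (G i)] [∀ i, Finite (G i)]
  {p : ℕ} [hp : Fact p.Prime] {n : I → ℕ} {τ : ∀ i, S₀ →* G i} {S : ∀ i, Sylow p (G i)}
  {K : ∀ i, Subgroup (G i)} [∀ i, (K i).Normal]

/-- A family over `S₀`, each member with its own field size. -/
structure Fam (τ : ∀ i, S₀ →* G i) (n : I → ℕ) (S : ∀ i, Sylow p (G i)) (K : ∀ i, Subgroup (G i))
    [∀ i, (K i).Normal] : Prop where
  inj : ∀ i, Function.Injective (τ i)
  range : ∀ i, (S i : Subgroup (G i)) = (τ i).range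
  mem : ∀ i (P : Sylow p (G i)), MemHyp (n i) P (K i)

theorem Fam.copyHom_injective (M : Fam τ n S K) (j : I × MulAut S₀) : Function.Injective (copyHom τ j) :=
  Monoid.PushoutI.of_injective (fun j => (M.inj j.1).comp j.2.injective) j

theorem Fam.baseHom_injective (M : Fam τ n S K) : Function.Injective (baseHom τ) :=
  Monoid.PushoutI.base_injective (φ := fun j : I × MulAut S₀ => copyMap τ j) fun j => (M.inj j.1).comp j.2.injective

theorem Fam.emb (M : Fam τ n S K) (j : I × MulAut S₀) (g : Over τ) :
    Emb p (S j.1) (vHom j g) (vGrp ⟨j, QuotientGroup.mk g⟩) (vCore p ⟨j, QuotientGroup.mk g⟩)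
      (vMd S ⟨j, QuotientGroup.mk g⟩) (edgeSet τ) := by
  have hinj : Function.Injective (vHom j g) := (MulAut.conj g).injective.comp (M.copyHom_injective j)
  refine ⟨hinj, ?_, (map_vHom j g _).symm, (map_vHom j g _).symm, ?_, ?_⟩
  · exact (range_vHom j g).symm
  · rintro P ⟨a, rfl⟩ hle
    have hle' : conjSub a (baseHom τ).range ≤ (vHom j g).range := by
      rw [range_vHom]
      exact hle
    set P' := (conjSub a (baseHom τ).range).comap (vHom j g) with hP'
    have e : P'.map (vHom j g) = conjSub a (baseHom τ).range := map_comap_eq_self hle'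
    have hc : Nat.card P' = Nat.card (S j.1 : Subgroup (G j.1)) := by
      rw [← card_map_of_injective hinj, e, CfsgLib.Fusion.card_conjSub, base_range M.range j,
        card_map_of_injective (M.copyHom_injective j)]
    exact ⟨Sylow.ofCard P' (hc.trans (S j.1).card_eq_multiplicity), e.symm⟩
  · intro P'
    obtain ⟨a, ha⟩ := exists_conj (S j.1) P'
    refine ⟨g * copyHom τ j a, ?_⟩
    rw [map_vHom, ha, ← conjSub_conjSub]
    congr 1
    rw [base_range M.range j, conjSub, conjSub, Subgroup.map_map, Subgroup.map_map]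
    congr 1
    ext x
    simp

/-- The glued family. -/
def Fam.amal (M : Fam τ n S K) (F : I → Type) [∀ i, Field (F i)] [∀ i, Fintype (F i)]
    (hF : ∀ i, Fintype.card (F i) = p ^ n i) : Amal (Over τ) (Vtx τ) p :=
  have key : ∀ v : Vtx τ, VertexAx p (p ^ n v.1.1) (vGrp v) (vCore p v) (vMd S v) (edgeSet τ) := fun v => by
    obtain ⟨g, hg⟩ := vertex_rep v
    rw [hg]
    exact (M.emb v.1 g).vertexAx (M.mem _) (F v.1.1) (hF _)
  { qv := fun v => p ^ n v.1.1
    grp := vGrp
    core := vCore p
    md := vMd S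
    edges := edgeSet τ
    act := vAct
    grp_act := vGrp_act
    core_act := vCore_act
    md_act := vMd_act
    edge_conj := fun g P ⟨a, ha⟩ => ⟨g * a, by rw [ha, conjSub_conjSub]⟩
    act_self := vAct_self
    act_inv := fun g v => Sigma.ext rfl (heq_of_eq (inv_smul_smul g v.2))
    finite := fun v => (key v).finite
    exists_edge := fun v => (key v).exists_edge
    edge_trans := fun v => (key v).edge_trans
    other := fun v => (key v).other
    core_le := fun v => (key v).core_le
    md_le := fun v => (key v).md_le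
    core_norm := fun v => (key v).core_norm
    md_norm := fun v => (key v).md_norm
    md_comm := fun v => (key v).md_comm
    md_pow := fun v => (key v).md_pow
    ctr_le := fun v => (key v).ctr_le
    md_index := fun v => (key v).md_index
    core_index := fun v => (key v).core_index
    cent_md := fun v => (key v).cent_md
    fix_le := fun v => (key v).fix_le
    comm_ctr := fun v => (key v).comm_ctr
    not_center := fun v => (key v).not_center
    gen := fun v => (key v).gen }

omit hp [∀ i, Finite (G i)] in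
theorem twHom_twHom (β γ : MulAut S₀) (x : Over τ) :
    twHom (τ := τ) β (twHom γ x) = twHom (β * γ) x := by
  suffices h : (twHom (τ := τ) β).comp (twHom γ) = twHom (β * γ) from DFunLike.congr_fun h x
  refine Monoid.PushoutI.hom_ext (fun j => MonoidHom.ext fun x => ?_) (MonoidHom.ext fun s => ?_)
  · obtain ⟨i, α⟩ := j
    have key : ∀ a b : MulAut S₀, a = b → (copyHom τ (i, a) x : Over τ) = copyHom τ (i, b) x := by
      rintro a _ rfl; rfl
    show twHom β (twHom γ (copyHom τ (i, α) x)) = twHom (β * γ) (copyHom τ (i, α) x)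
    rw [twHom_of γ (i, α) x, twHom_of (β * γ) (i, α) x]
    refine (twHom_of β (twIdx γ (i, α)) x).trans ?_
    exact key _ _ (by simp [twIdx, mul_assoc])
  · show twHom β (twHom γ (baseHom τ s)) = twHom (β * γ) (baseHom τ s)
    rw [twHom_base, twHom_base, twHom_base]
    rfl

omit hp [∀ i, Finite (G i)] in
theorem twHom_one (x : Over τ) : twHom (τ := τ) (1 : MulAut S₀) x = x := by
  suffices h : twHom (τ := τ) (1 : MulAut S₀) = MonoidHom.id _ from DFunLike.congr_fun h x
  refine Monoid.PushoutI.hom_ext (fun j => MonoidHom.ext fun x => ?_) (MonoidHom.ext fun s => ?_)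
  · obtain ⟨i, α⟩ := j
    have key : ∀ a b : MulAut S₀, a = b → (copyHom τ (i, a) x : Over τ) = copyHom τ (i, b) x := by
      rintro a _ rfl; rfl
    show twHom 1 (copyHom τ (i, α) x) = copyHom τ (i, α) x
    rw [twHom_of 1 (i, α) x]
    exact key _ _ (by simp [twIdx])
  · show twHom 1 (baseHom τ s) = baseHom τ s
    rw [twHom_base]
    rfl

/-- The automorphism of the overgroup. -/
def twEquiv (β : MulAut S₀) : Over τ ≃* Over τ where
  toFun := twHom β
  invFun := twHom β⁻¹
  left_inv x := by rw [twHom_twHom, inv_mul_cancel, twHom_one]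
  right_inv x := by rw [twHom_twHom, mul_inv_cancel, twHom_one]
  map_mul' := map_mul _

omit hp [∀ i, Finite (G i)] in
theorem twEquiv_hom (β : MulAut S₀) : (twEquiv (τ := τ) β).toMonoidHom = twHom β := rfl

omit hp [∀ i, Finite (G i)] in
theorem twVtx_twVtx (β γ : MulAut S₀) (v : Vtx τ) (h : β * γ = 1) : twVtx (τ := τ) β (twVtx γ v) = v := by
  obtain ⟨g, hg⟩ := vertex_rep v
  rw [hg, twVtx_mk, twVtx_mk, twHom_twHom, h, twHom_one]
  have e : twIdx β (twIdx γ v.1) = v.1 := by
    refine Prod.ext rfl ?_
    show v.1.2 * γ⁻¹ * β⁻¹ = v.1.2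
    rw [mul_assoc, ← mul_inv_rev, h, inv_one, mul_one]
  exact congrArg (fun k => (⟨k, QuotientGroup.mk g⟩ : Vtx τ)) e

/-- An automorphism of `S₀` as a symmetry. -/
def Fam.twSym (M : Fam τ n S K) (F : I → Type) [∀ i, Field (F i)] [∀ i, Fintype (F i)]
    (hF : ∀ i, Fintype.card (F i) = p ^ n i) (β : MulAut S₀) : (M.amal F hF).Sym where
  φ := twEquiv β
  σ :=
    { toFun := twVtx β
      invFun := twVtx β⁻¹
      left_inv := fun v => twVtx_twVtx _ _ v (inv_mul_cancel β)
      right_inv := fun v => twVtx_twVtx _ _ v (mul_inv_cancel β) }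
  grp_map v := (tw_grp β v).symm
  core_map v := by
    obtain ⟨g, hg⟩ := vertex_rep v
    rw [hg]
    show conjSub _ _ = (conjSub g _).map (twHom β)
    rw [twHom_conjSub, twHom_copy]
    rfl
  md_map v := (tw_md β v).symm
  edge_map := by
    rintro P ⟨a, rfl⟩
    exact ⟨twHom β a, by rw [twEquiv_hom, twHom_conjSub, twHom_base_range]⟩
  edge_symm := by
    rintro P ⟨a, rfl⟩
    exact ⟨twHom β⁻¹ a, by
      rw [show ((twEquiv (τ := τ) β).symm).toMonoidHom = twHom β⁻¹ from rfl, twHom_conjSub, twHom_base_range]⟩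

end CfsgLib.LocalEven.PairUp
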