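import Cfsg.Agent.Lib.LocalEven.PairUp.BLe
import Cfsg.Agent.Lib.LocalEven.PushUp.Pull

/-!
Windows and corners of a long critical path when the critical length is two.
-/

set_option autoImplicit false

namespace CfsgLib.LocalEven.PairUp

open Subgroup
open CfsgLib.Fusion (conjSub conjSub_mono mem_conjSub)
open CfsgLib.LocalEven.PushUp (ctr ctr_comm mem_normalizer_of_both mul_pow_class2)
open scoped commutatorElement

variable {𝕏 : Type*} [Group 𝕏] {ν : Type*} {p : ℕ} {Γ : Amal 𝕏 ν p}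

/-- Two modules at distance two, each outside the other core. -/
structure Win (Γ : Amal 𝕏 ν p) (x y z : ν) (e e' : Subgroup 𝕏) : Prop where
  mem : e ∈ Γ.edges
  mem' : e' ∈ Γ.edges
  left : e ≤ Γ.grp x
  mid : e ≤ Γ.grp y
  mid' : e' ≤ Γ.grp y
  right : e' ≤ Γ.grp z
  eq : e = Γ.md z ⊔ Γ.core x
  eq' : e' = Γ.md x ⊔ Γ.core z
  out : ¬ Γ.md z ≤ Γ.core x
  out' : ¬ Γ.md x ≤ Γ.core z
  comm : ∀ a ∈ Γ.md z, ∀ v ∈ Γ.md x, ⁅a, v⁆ ∈ ctr e ⊓ ctr e'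

theorem Win.symm {x y z : ν} {e e' : Subgroup 𝕏} (h : Win Γ x y z e e') : Win Γ z y x e' e :=
  ⟨h.mem', h.mem, h.right, h.mid', h.mid, h.left, h.eq', h.eq, h.out', h.out, fun a ha v hv => by
    rw [← commutatorElement_inv, inf_comm]
    exact inv_mem (h.comm v hv a ha)⟩

theorem Amal.Geo.win {N : ℕ} (g : Γ.Geo N) (hb : Γ.b = 2) {i : ℕ} (hi : i ≤ N) :
    Win Γ (g.w i) (g.w (i + 1)) (g.w (i + 2)) (g.e i) (g.e (i + 1)) := by
  have hb0 : 0 < Γ.b := by omega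
  have hle : i + Γ.b ≤ N + Γ.b := by omega
  have hc := g.crit i hi
  have e1 := Γ.first_eq g.toPath hb0 hle hc
  have e2 := Γ.last_eq g.toPath hb0 hle hc
  have e3 := Γ.crit_rev g.toPath hb0 hle hc
  have e4 := fun {x y : 𝕏} (hx : x ∈ Γ.md (g.w i)) (hy : y ∈ Γ.md (g.w (i + Γ.b))) =>
    Γ.commutator_ctr g.toPath hb0 hle hx hy
  have eb : i + Γ.b = i + 2 := by omega
  have eb' : i + Γ.b - 1 = i + 1 := by omega
  rw [eb] at e1 e3 hc
  simp only [eb', eb] at e2 e4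
  exact ⟨g.mem i (by omega), g.mem (i + 1) (by omega), g.left i (by omega), g.right i (by omega),
    g.left (i + 1) (by omega), g.right (i + 1) (by omega), e1, e2, e3, hc, fun a ha v hv => by
      rw [← commutatorElement_inv]
      exact inv_mem (e4 hv ha)⟩

/-- Two windows meeting at an edge, with a turn. -/
structure Corner (Γ : Amal 𝕏 ν p) (u x y z : ν) (f e e' : Subgroup 𝕏) : Prop where
  b_eq : Γ.b = 2
  fst : Win Γ u x y f e
  snd : Win Γ x y z e e'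
  turn : ctr f ≠ ctr e

/-- The second module at `x`. -/
def wMod (Γ : Amal 𝕏 ν p) (x u y : ν) : Subgroup 𝕏 :=
  (⨆ g : {g : 𝕏 // g ∈ Γ.grp x}, Γ.md (Γ.act g.1 u) ⊔ Γ.md (Γ.act g.1 y)) ⊔ Γ.md x

theorem wMod_swap (Γ : Amal 𝕏 ν p) (x u y : ν) : wMod Γ x u y = wMod Γ x y u := by
  simp only [wMod, sup_comm]

theorem wMod_norm (Γ : Amal 𝕏 ν p) (x u y : ν) : Γ.grp x ≤ normalizer (wMod Γ x u y : Set 𝕏) := by
  have key : ∀ a ∈ Γ.grp x, conjSub a (wMod Γ x u y) ≤ wMod Γ x u y := by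
    intro a ha
    unfold wMod conjSub
    rw [Subgroup.map_sup, Subgroup.map_iSup]
    refine sup_le_sup (iSup_le fun g => ?_) ?_
    · rw [Subgroup.map_sup]
      refine le_iSup_of_le ⟨a * g.1, mul_mem ha g.2⟩ (sup_le_sup ?_ ?_) <;>
      · rw [Γ.md_act, Γ.md_act]
        exact (CfsgLib.Fusion.conjSub_conjSub a g.1 _).le
    · exact (CfsgLib.Fusion.conjSub_eq_iff_mem_normalizer.2 (Γ.md_norm x ha)).le
  intro a ha
  refine mem_normalizer_of_both (fun w hw => key a ha (CfsgLib.Fusion.conj_mem_conjSub hw)) fun w hw => ?_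
  have := key a⁻¹ (inv_mem ha) (CfsgLib.Fusion.conj_mem_conjSub hw)
  simpa using this

variable {u x y z : ν} {f e e' : Subgroup 𝕏}

theorem Corner.near (h : Corner Γ u x y z f e e') : Γ.Adj u x ∧ Γ.Adj y x ∧ Γ.Adj z y :=
  ⟨⟨f, h.fst.mem, h.fst.left, h.fst.mid⟩, ⟨e, h.snd.mem, h.snd.mid, h.snd.left⟩,
    ⟨e', h.snd.mem', h.snd.right, h.snd.mid'⟩⟩

theorem Corner.md_le_of_adj (h : Corner Γ u x y z f e e') {v w : ν} (ha : Γ.Adj v w) : Γ.md v ≤ Γ.core w :=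
  Γ.md_le_core (Γ.near_one ha) (by rw [h.b_eq]; omega)

theorem Corner.md_le_mod (h : Corner Γ u x y z f e e') :
    Γ.md u ≤ wMod Γ x u y ∧ Γ.md y ≤ wMod Γ x u y ∧ Γ.md x ≤ wMod Γ x u y := by
  have hu : Γ.act 1 u = Γ.act 1 u := rfl
  have h1 : ∀ v, Γ.md (Γ.act 1 v) = Γ.md v := fun v => by rw [Γ.md_act, CfsgLib.Fusion.conjSub_one]
  refine ⟨le_sup_of_le_left (le_iSup_of_le ⟨1, one_mem _⟩ ?_), le_sup_of_le_left (le_iSup_of_le ⟨1, one_mem _⟩ ?_),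
    le_sup_right⟩
  · exact (h1 u).ge.trans le_sup_left
  · exact (h1 y).ge.trans le_sup_right

theorem Corner.mod_le (h : Corner Γ u x y z f e e') : wMod Γ x u y ≤ Γ.core x :=
  sup_le (iSup_le fun g => sup_le
    (Γ.md_le_core (Γ.near_conj h.near.1 g.2) (by rw [h.b_eq]; omega))
    (Γ.md_le_core (Γ.near_conj h.near.2.1 g.2) (by rw [h.b_eq]; omega))) (Γ.md_le x)

theorem Corner.grp_le (h : Corner Γ u x y z f e e') : Γ.core x ≤ Γ.grp x :=
  Γ.le_grp h.snd.mem h.snd.left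

/-- The commutators with the core are central in the vertex group. -/
theorem Corner.comm_core (h : Corner Γ u x y z f e e') :
    ∀ g ∈ Γ.core x, ∀ w ∈ wMod Γ x u y, ⁅g, w⁆ ∈ Γ.md x ⊓ centralizer (Γ.grp x : Set 𝕏) := by
  set Zx := Γ.md x ⊓ centralizer (Γ.grp x : Set 𝕏) with hZx
  have hQG := h.grp_le
  have hMG : Γ.md x ≤ Γ.grp x := (Γ.md_le x).trans hQG
  let T : Subgroup 𝕏 :=
    { carrier := {w | w ∈ Γ.core x ∧ ∀ g ∈ Γ.core x, ⁅g, w⁆ ∈ Zx}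
      one_mem' := ⟨one_mem _, fun g _ => by rw [commutatorElement_one_right]; exact one_mem Zx⟩
      mul_mem' := fun {a b} ha hb => ⟨mul_mem ha.1 hb.1, fun g hg => by
        rw [show ⁅g, a * b⁆ = ⁅g, a⁆ * (a * ⁅g, b⁆ * a⁻¹) by simp only [commutatorElement_def]; group,
          mem_centralizer_iff.1 (hb.2 g hg).2 a (hQG ha.1), mul_inv_cancel_right]
        exact mul_mem (ha.2 g hg) (hb.2 g hg)⟩
      inv_mem' := fun {a} ha => ⟨inv_mem ha.1, fun g hg => by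
        rw [show ⁅g, a⁻¹⁆ = a⁻¹ * ⁅g, a⁆⁻¹ * a⁻¹⁻¹ by simp only [commutatorElement_def]; group,
          mem_centralizer_iff.1 (inv_mem (ha.2 g hg)).2 a⁻¹ (inv_mem (hQG ha.1)), mul_inv_cancel_right]
        exact inv_mem (ha.2 g hg)⟩ }
  have hcentral : ∀ r ∈ ctr f ⊓ ctr e, r ∈ Zx := fun r hr => by
    refine ⟨Γ.ctr_le x e h.snd.mem h.snd.left hr.2, mem_centralizer_iff.2 fun g hg => ?_⟩
    have hle : Γ.grp x ≤ centralizer ({r} : Set 𝕏) :=
      (Γ.gen x f h.fst.mem h.fst.mid e h.snd.mem h.snd.left h.turn).trans (sup_le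
        (fun s hs => mem_centralizer_singleton_iff.2 (ctr_comm hr.1 hs))
        (fun s hs => mem_centralizer_singleton_iff.2 (ctr_comm hr.2 hs)))
    exact mem_centralizer_singleton_iff.1 (hle hg)
  have hTconj : ∀ a ∈ Γ.grp x, ∀ w ∈ T, a * w * a⁻¹ ∈ T := fun a ha w hw =>
    ⟨(mem_normalizer_iff.1 (Γ.core_norm x ha) w).1 hw.1, fun g hg => by
      have hg' : a⁻¹ * g * a ∈ Γ.core x := by
        simpa using (mem_normalizer_iff.1 (Γ.core_norm x (inv_mem ha)) g).1 hg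
      rw [show ⁅g, a * w * a⁻¹⁆ = a * ⁅a⁻¹ * g * a, w⁆ * a⁻¹ by simp only [commutatorElement_def]; group,
        mem_centralizer_iff.1 (hw.2 _ hg').2 a ha, mul_inv_cancel_right]
      exact hw.2 _ hg'⟩
  have hx : Γ.md x ≤ T := fun w hw => ⟨Γ.md_le x hw, fun g hg => by
    rw [commutatorElement_eq_one_iff_mul_comm.2 (Γ.md_comm x g hg w hw)]
    exact one_mem Zx⟩
  have hu : Γ.md u ≤ T := fun w hw => ⟨h.md_le_of_adj h.near.1 hw, fun g hg => by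
    have hg' : g ∈ Γ.md y ⊔ Γ.core u := h.fst.eq ▸ Γ.core_le x f h.fst.mem h.fst.mid hg
    obtain ⟨a, ha, t, ht, rfl⟩ := Γ.exists_mul
      (v := u) ((h.fst.eq ▸ le_sup_left : Γ.md y ≤ f).trans h.fst.left) hg'
    rw [show ⁅a * t, w⁆ = a * ⁅t, w⁆ * a⁻¹ * ⁅a, w⁆ by simp only [commutatorElement_def]; group,
      commutatorElement_eq_one_iff_mul_comm.2 (Γ.md_comm u t ht w hw), mul_one, mul_inv_cancel, one_mul]
    exact hcentral _ (h.fst.comm a ha w hw)⟩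
  have hy : Γ.md y ≤ T := fun w hw => ⟨h.md_le_of_adj h.near.2.1 hw, fun g hg => by
    have hg' : g ∈ Γ.md u ⊔ Γ.core y := h.fst.eq' ▸ Γ.core_le x e h.snd.mem h.snd.left hg
    obtain ⟨a, ha, t, ht, rfl⟩ := Γ.exists_mul
      (v := y) ((h.fst.eq' ▸ le_sup_left : Γ.md u ≤ e).trans h.fst.right) hg'
    rw [show ⁅a * t, w⁆ = a * ⁅t, w⁆ * a⁻¹ * ⁅a, w⁆ by simp only [commutatorElement_def]; group,
      commutatorElement_eq_one_iff_mul_comm.2 (Γ.md_comm y t ht w hw), mul_one, mul_inv_cancel, one_mul,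
      ← commutatorElement_inv]
    exact inv_mem (hcentral _ (h.fst.comm w hw a ha))⟩
  have hle : wMod Γ x u y ≤ T := by
    refine sup_le (iSup_le fun g => sup_le ?_ ?_) hx
    all_goals
      rw [Γ.md_act]
      rintro _ ⟨w, hw, rfl⟩
    · exact hTconj g.1 g.2 w (hu hw)
    · exact hTconj g.1 g.2 w (hy hw)
  exact fun g hg w hw => (hle hw).2 g hg

theorem Corner.pow_mod (h : Corner Γ u x y z f e e') :
    ∀ w ∈ wMod Γ x u y, w ^ p ∈ Γ.md x ⊓ centralizer (Γ.grp x : Set 𝕏) ∧ (Odd p → w ^ p = 1) := by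
  set Zx := Γ.md x ⊓ centralizer (Γ.grp x : Set 𝕏) with hZx
  have hWQ := h.mod_le
  have hQG := h.grp_le
  have hcomm := h.comm_core
  let T : Subgroup 𝕏 :=
    { carrier := {w | w ∈ wMod Γ x u y ∧ w ^ p ∈ Zx ∧ (Odd p → w ^ p = 1)}
      one_mem' := ⟨one_mem _, by rw [one_pow]; exact one_mem Zx, fun _ => one_pow p⟩
      mul_mem' := fun {a b} ha hb => by
        set c := ⁅b⁻¹, a⁻¹⁆ with hc
        have hcZ : c ∈ Zx := hcomm b⁻¹ (inv_mem (hWQ hb.1)) a⁻¹ (inv_mem ha.1)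
        have hpow := mul_pow_class2 (x := a) (y := b) (c := c)
          (by simp only [hc, commutatorElement_def]; group)
          (mem_centralizer_iff.1 hcZ.2 a (hQG (hWQ ha.1))).symm
          (mem_centralizer_iff.1 hcZ.2 b (hQG (hWQ hb.1))).symm p
        refine ⟨mul_mem ha.1 hb.1, ?_, fun hodd => ?_⟩
        · rw [hpow]
          exact mul_mem (mul_mem ha.2.1 hb.2.1) (pow_mem hcZ _)
        · obtain ⟨k, hk⟩ := hodd
          have hdvd : p ∣ p.choose 2 := by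
            rw [Nat.choose_two_right]
            refine ⟨(p - 1) / 2, ?_⟩
            rw [Nat.mul_div_assoc p ⟨k, by omega⟩]
          obtain ⟨i, hi⟩ := hdvd
          rw [hpow, ha.2.2 ⟨k, hk⟩, hb.2.2 ⟨k, hk⟩, hi, pow_mul, Γ.md_pow x c hcZ.1, one_pow]
          simp
      inv_mem' := fun {a} ha => ⟨inv_mem ha.1, by rw [inv_pow]; exact inv_mem ha.2.1,
        fun ho => by rw [inv_pow, ha.2.2 ho, inv_one]⟩ }
  have hle : wMod Γ x u y ≤ T := by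
    refine sup_le (iSup_le fun g => sup_le (fun w hw => ?_) (fun w hw => ?_)) fun w hw => ?_
    · have hle : Γ.md (Γ.act g.1 u) ≤ wMod Γ x u y := le_sup_of_le_left (le_iSup_of_le
        (f := fun g : {g : 𝕏 // g ∈ Γ.grp x} => Γ.md (Γ.act g.1 u) ⊔ Γ.md (Γ.act g.1 y)) g le_sup_left)
      refine ⟨hle hw, ?_⟩
      rw [Γ.md_pow _ w hw]
      exact ⟨one_mem Zx, fun _ => rfl⟩
    · have hle : Γ.md (Γ.act g.1 y) ≤ wMod Γ x u y := le_sup_of_le_left (le_iSup_of_le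
        (f := fun g : {g : 𝕏 // g ∈ Γ.grp x} => Γ.md (Γ.act g.1 u) ⊔ Γ.md (Γ.act g.1 y)) g le_sup_right)
      refine ⟨hle hw, ?_⟩
      rw [Γ.md_pow _ w hw]
      exact ⟨one_mem Zx, fun _ => rfl⟩
    · refine ⟨h.md_le_mod.2.2 hw, ?_⟩
      rw [Γ.md_pow _ w hw]
      exact ⟨one_mem Zx, fun _ => rfl⟩
  exact fun w hw => (hle hw).2

theorem Corner.near_part (h : Corner Γ u x y z f e e') :
    (∀ a ∈ Γ.md z, ∀ w ∈ wMod Γ x u y ⊓ Γ.core y, ⁅a, w⁆ ∈ ctr e) ∧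
    (∀ a ∈ Γ.md z, ∀ w ∈ wMod Γ x u y, ⁅a, w⁆ ∈ wMod Γ x u y ⊓ Γ.core y) ∧
    (∀ a ∈ Γ.md z, ∀ g ∈ Γ.core x, ⁅a, g⁆ ∈ wMod Γ x u y) := by
  have haG : Γ.md z ≤ Γ.grp x := (h.snd.eq ▸ le_sup_left : Γ.md z ≤ e).trans h.snd.left
  have hconj : ∀ a ∈ Γ.grp x, ∀ w ∈ wMod Γ x u y, ⁅a, w⁆ ∈ wMod Γ x u y := fun a ha w hw => by
    rw [commutatorElement_def]
    exact mul_mem ((mem_normalizer_iff.1 (wMod_norm Γ x u y ha) w).1 hw) (inv_mem hw)
  have hQy : ∀ a ∈ Γ.md z, ∀ s ∈ Γ.core y, ⁅a, s⁆ ∈ ctr e := by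
    intro a ha s hs
    have hs' : s ∈ Γ.md x ⊔ Γ.core z := h.snd.eq' ▸ Γ.core_le y e' h.snd.mem' h.snd.mid' hs
    obtain ⟨v, hv, t, ht, rfl⟩ := Γ.exists_mul
      (v := z) ((h.snd.eq' ▸ le_sup_left : Γ.md x ≤ e').trans h.snd.right) hs'
    rw [show ⁅a, v * t⁆ = ⁅a, v⁆ * (v * ⁅a, t⁆ * v⁻¹) by simp only [commutatorElement_def]; group,
      commutatorElement_eq_one_iff_mul_comm.2 (Γ.md_comm z t ht a ha).symm, mul_one, mul_inv_cancel, mul_one]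
    exact (h.snd.comm a ha v hv).1
  refine ⟨fun a ha w hw => hQy a ha w hw.2, fun a ha w hw => ⟨hconj a (haG ha) w hw, ?_⟩, fun a ha g hg => ?_⟩
  · have hwy : w ∈ Γ.grp y := h.snd.mid (Γ.core_le x e h.snd.mem h.snd.left (h.mod_le hw))
    have haQ := h.md_le_of_adj h.near.2.2 ha
    show ⁅a, w⁆ ∈ Γ.core y
    rw [show ⁅a, w⁆ = a * (w * a⁻¹ * w⁻¹) by simp only [commutatorElement_def]; group]
    exact mul_mem haQ ((mem_normalizer_iff.1 (Γ.core_norm y hwy) _).1 (inv_mem haQ))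
  · have hg' : g ∈ Γ.md u ⊔ Γ.core y := h.fst.eq' ▸ Γ.core_le x e h.snd.mem h.snd.left hg
    obtain ⟨v, hv, s, hs, rfl⟩ := Γ.exists_mul
      (v := y) ((h.fst.eq' ▸ le_sup_left : Γ.md u ≤ e).trans h.fst.right) hg'
    rw [show ⁅a, v * s⁆ = ⁅a, v⁆ * (v * ⁅a, s⁆ * v⁻¹) by simp only [commutatorElement_def]; group]
    have hvW := h.md_le_mod.1 hv
    refine mul_mem (hconj a (haG ha) v hvW) (mul_mem (mul_mem hvW ?_) (inv_mem hvW))
    exact h.md_le_mod.2.2 (Γ.ctr_le x e h.snd.mem h.snd.left (hQy a ha s hs))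

theorem Corner.not_all_le (h : Corner Γ u x y z f e e') :
    ¬ ∀ g ∈ Γ.grp x, conjSub g (Γ.md y) ≤ Γ.md y ⊔ Γ.md x := by
  intro hall
  obtain ⟨g, hg, hgf⟩ := Γ.edge_trans x e h.snd.mem h.snd.left f h.fst.mem h.fst.mid
  have h1 : Γ.md (Γ.act g y) ≤ Γ.core u := h.md_le_of_adj ⟨f, h.fst.mem, by
    rw [Γ.grp_act, ← hgf]; exact conjSub_mono g h.snd.mid, h.fst.left⟩
  have h2 := conjSub_mono g (hall g⁻¹ (inv_mem hg))
  rw [CfsgLib.Fusion.conjSub_conjSub, mul_inv_cancel, CfsgLib.Fusion.conjSub_one, conjSub, Subgroup.map_sup] at h2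
  refine h.fst.out (h2.trans (sup_le ?_ ?_))
  · exact (Γ.md_act g y).ge.trans h1
  · exact (CfsgLib.Fusion.conjSub_eq_iff_mem_normalizer.2 (Γ.md_norm x hg)).le.trans
      (h.md_le_of_adj (Γ.adj_symm h.near.1))

/-- The four cores. -/
def fourCore (Γ : Amal 𝕏 ν p) (u x y z : ν) : Subgroup 𝕏 := Γ.core u ⊓ Γ.core x ⊓ Γ.core y ⊓ Γ.core z

theorem Corner.gen (h : Corner Γ u x y z f e e') :
    Γ.core x ≤ (wMod Γ x u y ⊓ centralizer (fourCore Γ u x y z : Set 𝕏)) ⊔ fourCore Γ u x y z := by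
  intro g hg
  obtain ⟨hu, hy, hx⟩ := h.md_le_mod
  have hc : ∀ v, (v = u ∨ v = x ∨ v = y) → Γ.md v ≤ wMod Γ x u y ⊓ centralizer (fourCore Γ u x y z : Set 𝕏) := by
    intro v hv w hw
    refine ⟨?_, mem_centralizer_iff.2 fun c hc' => ?_⟩
    · rcases hv with rfl | rfl | rfl
      · exact hu hw
      · exact hx hw
      · exact hy hw
    · refine Γ.md_comm v c ?_ w hw
      rcases hv with rfl | rfl | rfl
      · exact hc'.1.1.1
      · exact hc'.1.1.2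
      · exact hc'.1.2
  have hg1 : g ∈ Γ.md u ⊔ Γ.core y := h.fst.eq' ▸ Γ.core_le x e h.snd.mem h.snd.left hg
  obtain ⟨a, ha, s, hs, rfl⟩ := Γ.exists_mul
    (v := y) ((h.fst.eq' ▸ le_sup_left : Γ.md u ≤ e).trans h.fst.right) hg1
  have hsx : s ∈ Γ.core x := by
    have := mul_mem (inv_mem (h.md_le_of_adj h.near.1 ha)) hg
    rwa [inv_mul_cancel_left] at this
  have hs1 : s ∈ Γ.md y ⊔ Γ.core u := h.fst.eq ▸ Γ.core_le x f h.fst.mem h.fst.mid hsx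
  obtain ⟨b, hb, t, ht, rfl⟩ := Γ.exists_mul
    (v := u) ((h.fst.eq ▸ le_sup_left : Γ.md y ≤ f).trans h.fst.left) hs1
  have htx : t ∈ Γ.core x := by
    have := mul_mem (inv_mem (h.md_le_of_adj h.near.2.1 hb)) hsx
    rwa [inv_mul_cancel_left] at this
  have hty : t ∈ Γ.core y := by
    have := mul_mem (inv_mem (Γ.md_le y hb)) hs
    rwa [inv_mul_cancel_left] at this
  have ht1 : t ∈ Γ.md x ⊔ Γ.core z := h.snd.eq' ▸ Γ.core_le y e' h.snd.mem' h.snd.mid' hty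
  obtain ⟨c, hc', r, hr, rfl⟩ := Γ.exists_mul
    (v := z) ((h.snd.eq' ▸ le_sup_left : Γ.md x ≤ e').trans h.snd.right) ht1
  have hru : r ∈ Γ.core u := by
    have := mul_mem (inv_mem (h.md_le_of_adj (Γ.adj_symm h.near.1) hc')) ht
    rwa [inv_mul_cancel_left] at this
  have hrx : r ∈ Γ.core x := by
    have := mul_mem (inv_mem (Γ.md_le x hc')) htx
    rwa [inv_mul_cancel_left] at this
  have hry : r ∈ Γ.core y := by
    have := mul_mem (inv_mem (h.md_le_of_adj (Γ.adj_symm h.near.2.1) hc')) hty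
    rwa [inv_mul_cancel_left] at this
  exact mul_mem (mem_sup_left (hc u (Or.inl rfl) ha)) (mul_mem (mem_sup_left (hc y (Or.inr (Or.inr rfl)) hb))
    (mul_mem (mem_sup_left (hc x (Or.inr (Or.inl rfl)) hc')) (mem_sup_right ⟨⟨⟨hru, hrx⟩, hry⟩, hr⟩)))

end CfsgLib.LocalEven.PairUp
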