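import Cfsg.Agent.Lib.LocalEven.PairUp.Member
import Cfsg.Agent.Lib.LocalEven.PairUp.Main
import Cfsg.Agent.Lib.Transfer.FusionGlauberman

/-!
The pair of characteristic subgroups: reductions to the family theorem.
-/

set_option autoImplicit false

namespace CfsgLib.LocalEven.PairUp

open Cfsg Subgroup
open CfsgLib.LocalEven
open CfsgLib.LocalEven.RankOne
open CfsgLib.LocalEven.PushUp
open CfsgLib.PStab
open scoped Pointwise commutatorElement

universe u

section Iso

variable {P R : Type*} [Group P] [Group R]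

theorem map_top_subgroupOf_char {T X : Subgroup P} (hT : T = ⊤) [hX : X.Characteristic] :
    (X.subgroupOf T).Characteristic := by
  subst hT
  refine characteristic_iff_map_le.2 fun φ => ?_
  rintro _ ⟨x, hx, rfl⟩
  exact characteristic_iff_map_le.1 hX
    ((Subgroup.topEquiv : (⊤ : Subgroup P) ≃* P).symm.trans (φ.trans Subgroup.topEquiv)) ⟨(x : P), hx, rfl⟩

theorem char_inf {X Y : Subgroup P} (hX : X.Characteristic) (hY : Y.Characteristic) : (X ⊓ Y).Characteristic :=
  characteristic_iff_map_eq.2 fun φ => by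
    rw [Subgroup.map_inf _ _ φ.toMonoidHom φ.injective, characteristic_iff_map_eq.1 hX φ,
      characteristic_iff_map_eq.1 hY φ]

theorem char_commutator {X Y : Subgroup P} (hX : X.Characteristic) (hY : Y.Characteristic) :
    (⁅X, Y⁆).Characteristic :=
  characteristic_iff_map_eq.2 fun φ => by
    rw [map_commutator, characteristic_iff_map_eq.1 hX φ, characteristic_iff_map_eq.1 hY φ]

theorem char_powerClosure (p : ℕ) {X : Subgroup P} (hX : X.Characteristic) :
    (powerClosure p 1 X).Characteristic :=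
  characteristic_iff_map_eq.2 fun φ => by
    rw [powerClosure_one_eq, map_powCl, characteristic_iff_map_eq.1 hX φ]

theorem center_eq_czOf : center P = czOf (⊤ : Subgroup P) := by
  ext x
  simp only [czOf, mem_inf, mem_top, true_and, mem_center_iff, mem_centralizer_iff, coe_top, Set.mem_univ,
    forall_const]

theorem map_centralizer_range {f : P →* R} (hf : Function.Injective f) (X : Subgroup P) :
    (centralizer (X : Set P)).map f = f.range ⊓ centralizer (X.map f : Set R) := by
  ext y
  constructor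
  · rintro ⟨x, hx, rfl⟩
    refine ⟨⟨x, rfl⟩, mem_centralizer_iff.2 ?_⟩
    rintro _ ⟨z, hz, rfl⟩
    rw [← map_mul, mem_centralizer_iff.1 hx z hz, map_mul]
  · rintro ⟨⟨x, rfl⟩, hy⟩
    refine ⟨x, mem_centralizer_iff.2 fun z hz => hf ?_, rfl⟩
    rw [map_mul, map_mul]
    exact mem_centralizer_iff.1 hy _ (mem_map_of_mem f hz)

variable [Finite P] [Finite R]

theorem card_center_map {f : P →* R} (hf : Function.Injective f) (X : Subgroup P) :
    Nat.card ↥(center ↥(X.map f)) = Nat.card ↥(center ↥X) :=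
  (Nat.card_congr (Subgroup.centerCongr (X.equivMapOfInjective f hf)).toEquiv).symm

theorem maxCentralProduct_congr (e : P ≃* R) : maxCentralProduct P = maxCentralProduct R :=
  le_antisymm (maxCentralProduct_le_of_injective (f := e.toMonoidHom) e.injective)
    (maxCentralProduct_le_of_injective (f := e.symm.toMonoidHom) e.symm.injective)

/-- A subgroup containing a centrally large one has the same measure. -/
theorem maxCentralProduct_of_le {Q X : Subgroup P} (hQ : IsCentrallyLarge Q) (h : Q ≤ X) :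
    maxCentralProduct ↥X = maxCentralProduct P := by
  refine le_antisymm (maxCentralProduct_le_of_injective X.subtype_injective) ?_
  rw [← show Nat.card Q * Nat.card ↥(center ↥Q) = maxCentralProduct P from hQ,
    ← Nat.card_congr (subgroupOfEquivOfLe h).toEquiv,
    ← Nat.card_congr (Subgroup.centerCongr (subgroupOfEquivOfLe h)).toEquiv]
  exact measure_le_max _

theorem isCentrallyLarge_equiv (e : P ≃* R) {Q : Subgroup P} (hQ : IsCentrallyLarge Q) :
    IsCentrallyLarge (Q.map e.toMonoidHom) := by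
  show Nat.card ↥(Q.map e.toMonoidHom) * Nat.card ↥(center ↥(Q.map e.toMonoidHom)) = _
  rw [card_map_of_injective (show Function.Injective e.toMonoidHom from e.injective),
    card_center_map (show Function.Injective e.toMonoidHom from e.injective), ← maxCentralProduct_congr e]
  exact hQ

theorem isMCL_equiv (e : P ≃* R) {Q : Subgroup P} (hQ : IsMinimalCentrallyLarge Q) :
    IsMinimalCentrallyLarge (Q.map e.toMonoidHom) := by
  refine ⟨isCentrallyLarge_equiv e hQ.1, fun X hle hX => ?_⟩
  have h1 : X.map e.symm.toMonoidHom ≤ Q := by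
    rintro _ ⟨y, hy, rfl⟩
    obtain ⟨q, hq, rfl⟩ := hle hy
    simpa using hq
  rw [← hQ.2 _ h1 (isCentrallyLarge_equiv e.symm hX)]
  ext x
  simp [Subgroup.mem_map]

omit [Finite P] [Finite R] in
theorem map_eq_of_le (e : P ≃* R) {X : Subgroup P} {Y : Subgroup R} (h1 : X.map e.toMonoidHom ≤ Y)
    (h2 : Y.map e.symm.toMonoidHom ≤ X) : X.map e.toMonoidHom = Y :=
  le_antisymm h1 fun y hy => ⟨e.symm y, h2 ⟨y, hy, rfl⟩, e.apply_symm_apply y⟩

theorem map_MCLJoin_le (e : P ≃* R) :
    (minimalCentrallyLargeJoin P).map e.toMonoidHom ≤ minimalCentrallyLargeJoin R := by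
  rw [Subgroup.map_le_iff_le_comap]
  exact sSup_le fun Q hQ => Subgroup.map_le_iff_le_comap.1 (le_sSup (isMCL_equiv e hQ))

theorem map_MCLJoin (e : P ≃* R) :
    (minimalCentrallyLargeJoin P).map e.toMonoidHom = minimalCentrallyLargeJoin R :=
  map_eq_of_le e (map_MCLJoin_le e) (map_MCLJoin_le e.symm)

theorem card_omega_map {f : P →* R} (hf : Function.Injective f) (p : ℕ) (X : Subgroup P) :
    Nat.card ↥(omegaOne p (czOf (X.map f))) = Nat.card ↥(omegaOne p (czOf X)) := by
  rw [← czOf_map hf, ← omegaOne_map hf, card_map_of_injective hf]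

theorem maxOmega_le (p : ℕ) (e : P ≃* R) :
    maxOmegaCenterOfMinimalCL p P ≤ maxOmegaCenterOfMinimalCL p R := by
  obtain ⟨Q₀, hQ₀⟩ := exists_centrallyLarge (G := P)
  obtain ⟨Q₁, -, hQ₁⟩ := exists_minimalCentrallyLarge hQ₀
  refine csSup_le ⟨_, Q₁, hQ₁, rfl⟩ ?_
  rintro k ⟨Q, hQ, rfl⟩
  exact le_csSup ⟨Nat.card R, by rintro k ⟨U, -, rfl⟩; exact card_le_card_group _⟩
    ⟨_, isMCL_equiv e hQ, card_omega_map (f := e.toMonoidHom) e.injective p Q⟩

theorem map_frattiniJoin_le (p : ℕ) (e : P ≃* R) :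
    (frattiniOfMinimalCLJoin p P).map e.toMonoidHom ≤ frattiniOfMinimalCLJoin p R := by
  rw [frattiniOfMinimalCLJoin, Subgroup.map_iSup]
  refine iSup_le fun ⟨Q, hQ, hΩ⟩ => ?_
  have hm : maxOmegaCenterOfMinimalCL p P = maxOmegaCenterOfMinimalCL p R :=
    le_antisymm (maxOmega_le p e) (maxOmega_le p e.symm)
  show (phiOf Q).map e.toMonoidHom ≤ _
  rw [phiOf_map (show Function.Injective e.toMonoidHom from e.injective)]
  exact le_iSup (fun U : {U : Subgroup R // IsMinimalCentrallyLarge U ∧
    Nat.card ↥(omegaOneCenter p U) = maxOmegaCenterOfMinimalCL p R} =>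
      (frattini ↥(U : Subgroup R)).map (U : Subgroup R).subtype)
    ⟨_, isMCL_equiv e hQ, (card_omega_map (f := e.toMonoidHom) e.injective p Q).trans (hΩ.trans hm)⟩

theorem map_frattiniJoin (p : ℕ) (e : P ≃* R) :
    (frattiniOfMinimalCLJoin p P).map e.toMonoidHom = frattiniOfMinimalCLJoin p R :=
  map_eq_of_le e (map_frattiniJoin_le p e) (map_frattiniJoin_le p e.symm)

end Iso

variable {p : ℕ} [hp : Fact p.Prime] {S : Type u} [Group S]

variable (S) in
/-- The centre of the Thompson subgroup. -/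
abbrev zJ : Subgroup S := thompsonSubgroupA S ⊓ centralizer (thompsonSubgroupA S : Set S)

variable (S) in
/-- Its centraliser. -/
abbrev tJ : Subgroup S := centralizer ((zJ S : Subgroup S) : Set S)

variable (p) in
/-- The pair property. -/
def PairNormal (S₁ S₂ : Subgroup S) : Prop :=
  ∀ (G : Type u) [Group G] [Finite G] (P : Subgroup G) (e : S ≃* ↥P), Cfsg.IsPushingUpSituation p P →
    (S₁.map ((P.subtype).comp (e : S ≃* ↥P).toMonoidHom)).Normal ∨
      (S₂.map ((P.subtype).comp (e : S ≃* ↥P).toMonoidHom)).Normal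

variable (p) in
/-- A pair as wanted. -/
def GoodPair (S₁ S₂ : Subgroup S) : Prop :=
  S₁ ≠ ⊥ ∧ S₂ ≠ ⊥ ∧ S₁.Characteristic ∧ S₂.Characteristic ∧ S₁ ≤ center S ∧ S₂ ≤ tJ S ∧
    (S₂.subgroupOf (tJ S)).Characteristic ∧ PairNormal p S₁ S₂

theorem pairNormal_of {S₁ S₂ : Subgroup S}
    (hh : ∀ (G : Type u) [Group G] [Finite G] (P : Sylow p G) (e : S ≃* ↥(P : Subgroup G)) (K : Subgroup G)
      [K.Normal] (n : ℕ), Hyp n P K →
        (S₁.map ((P : Subgroup G).subtype.comp e.toMonoidHom)).Normal ∨
          (S₂.map ((P : Subgroup G).subtype.comp e.toMonoidHom)).Normal) : PairNormal p S₁ S₂ := by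
  intro G _ _ P e hE
  obtain ⟨-, ⟨P', rfl⟩, hc, hu, K, hK, F, _, _, n, hF, he⟩ := hE
  have hn : 1 ≤ n := Nat.pos_of_ne_zero fun h0 => by
    subst h0
    exact (Fintype.one_lt_card (α := F)).ne' (by rw [hF, pow_zero])
  exact hh G P' e K n (hyp_of_equiv P' hc hu K F n hn hF he)

section Embed

variable {G : Type u} [Group G] {P : Sylow p G}

omit hp in
theorem emb_injective (e : S ≃* ↥(P : Subgroup G)) :
    Function.Injective ((P : Subgroup G).subtype.comp e.toMonoidHom) :=
  (P : Subgroup G).subtype_injective.comp e.injective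

omit hp in
theorem emb_range (e : S ≃* ↥(P : Subgroup G)) :
    ((P : Subgroup G).subtype.comp e.toMonoidHom).range = (P : Subgroup G) := by
  rw [MonoidHom.range_comp, MonoidHom.range_eq_top.2 e.surjective, ← MonoidHom.range_eq_map, range_subtype]

omit hp in
theorem map_center_emb (e : S ≃* ↥(P : Subgroup G)) :
    (center S).map ((P : Subgroup G).subtype.comp e.toMonoidHom) = zS P := by
  rw [center_eq_czOf, czOf_map (emb_injective e), ← MonoidHom.range_eq_map, emb_range]
  rfl

omit hp in
theorem map_zJ_emb (e : S ≃* ↥(P : Subgroup G)) :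
    (zJ S).map ((P : Subgroup G).subtype.comp e.toMonoidHom) = zjGen 0 (P : Subgroup G) := by
  show (czOf (thompsonSubgroupA S)).map _ = _
  rw [czOf_map (emb_injective e), ← map_map, CfsgLib.Transfer.thompsonSubgroupA_map S _ e,
    ← centerThompsonAOf_eq_zjGen]
  rfl

omit hp in
theorem map_tJ_emb (e : S ≃* ↥(P : Subgroup G)) :
    (tJ S).map ((P : Subgroup G).subtype.comp e.toMonoidHom) =
      (P : Subgroup G) ⊓ centralizer (zjGen 0 (P : Subgroup G) : Set G) := by
  rw [map_centralizer_range (emb_injective e), map_zJ_emb, emb_range]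

omit hp in
theorem le_centralizer_of_top (e : S ≃* ↥(P : Subgroup G)) (hT : tJ S = ⊤) :
    (P : Subgroup G) ≤ centralizer (zjGen 0 (P : Subgroup G) : Set G) := by
  have h1 := map_tJ_emb e
  rw [hT, ← MonoidHom.range_eq_map, emb_range] at h1
  exact h1.le.trans inf_le_right

end Embed

variable [Finite S]

theorem zJ_characteristic : (zJ S).Characteristic := by
  haveI : (thompsonSubgroupA S).Characteristic :=
    characteristic_iff_map_eq.2 fun φ => CfsgLib.Transfer.thompsonSubgroupA_map S S φ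
  exact char_inf inferInstance inferInstance

theorem tJ_characteristic : (tJ S).Characteristic := by
  haveI := zJ_characteristic (S := S)
  infer_instance

theorem goodPair_of_top {S₁ S₂ : Subgroup S} (hT : tJ S = ⊤) (h1 : S₁ ≠ ⊥) (h2 : S₂ ≠ ⊥)
    (c1 : S₁.Characteristic) (c2 : S₂.Characteristic) (hz : S₁ ≤ center S) (hN : PairNormal p S₁ S₂) :
    GoodPair p S₁ S₂ :=
  ⟨h1, h2, c1, c2, hz, hT.symm ▸ le_top, map_top_subgroupOf_char hT (hX := c2), hN⟩

/-- The centre and the join of Frattini subgroups. -/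
theorem exists_pair_frattini [Nontrivial S] (hS : IsPGroup p S) (hT : tJ S = ⊤)
    (hab : ∀ Q : Subgroup S, IsMinimalCentrallyLarge Q → IsMulCommutative ↥Q)
    (hA : ¬ ∃ A ∈ maxAbelianSubgroups S, IsElementaryAbelian p A) :
    ∃ S₁ S₂ : Subgroup S, GoodPair p S₁ S₂ := by
  haveI := hS.center_nontrivial
  refine ⟨center S, frattiniOfMinimalCLJoin p S, goodPair_of_top hT ((nontrivial_iff_ne_bot _).1 inferInstance)
    (fun h0 => hA ?_) inferInstance
    (characteristic_iff_map_eq.2 fun φ => map_frattiniJoin p φ) le_rfl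
    (pairNormal_of fun G _ _ P e K _ n h => ?_)⟩
  · obtain ⟨Q₀, hQ₀⟩ := exists_centrallyLarge (G := S)
    obtain ⟨Q₁, -, hQ₁⟩ := exists_minimalCentrallyLarge hQ₀
    obtain ⟨T, hT', hΩ⟩ := Nat.sSup_mem (s := {k : ℕ | ∃ Q : Subgroup S, IsMinimalCentrallyLarge Q ∧
      Nat.card ↥(omegaOneCenter p Q) = k}) ⟨_, Q₁, hQ₁, rfl⟩
      ⟨Nat.card S, by rintro k ⟨U, -, rfl⟩; exact card_le_card_group _⟩
    have h1 : (frattini ↥T).map T.subtype ≤ ⊥ := h0 ▸ le_iSup (fun Q : {Q : Subgroup S //
        IsMinimalCentrallyLarge Q ∧ Nat.card ↥(omegaOneCenter p Q) = maxOmegaCenterOfMinimalCL p S} =>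
          (frattini ↥(Q : Subgroup S)).map (Q : Subgroup S).subtype) ⟨T, hT', hΩ⟩
    refine ⟨T, ((Cfsg.Agent.S3007.result S hS T T hT' hT').2.2.2.2 (hab T hT') T).1 hT', hab T hT', fun a ha => ?_⟩
    exact mem_bot.1 (h1 ((le_phiOf (hS.to_subgroup T)).2 a ha))
  · rw [map_center_emb e, ← map_map, map_frattiniJoin p e]
    exact h.frattini_join_normal (le_centralizer_of_top e hT)

variable (p S) in
/-- The remaining class. -/
structure Residue : Prop where
  top : tJ S = ⊤
  mcl : ∀ Q : Subgroup S, IsMinimalCentrallyLarge Q → IsMulCommutative ↥Q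
  noncomm : ¬ IsMulCommutative S
  thompson : thompsonSubgroupA S = ⊤
  elem : ∀ x ∈ center S, x ^ p = 1
  word : s0 p S = ⊥

/-- A pair outside the remaining class. -/
theorem exists_pair_or [Nontrivial S] (hS : IsPGroup p S) :
    (∃ S₁ S₂ : Subgroup S, GoodPair p S₁ S₂ ∧ maxCentralProduct ↥S₂ = maxCentralProduct ↥(tJ S)) ∨
      Residue p S := by
  haveI := hS.center_nontrivial
  haveI := tJ_characteristic (S := S)
  have hzle : center S ≤ tJ S := center_le_centralizer _
  have htne : tJ S ≠ ⊥ := fun h0 => (nontrivial_iff_ne_bot _).1 ‹_› (le_bot_iff.1 (h0 ▸ hzle))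
  by_cases hT : tJ S = ⊤
  swap
  · refine Or.inl ⟨⁅zJ S, (⊤ : Subgroup S)⁆ ⊓ center S, tJ S, ⟨?_, htne, ?_, inferInstance, inf_le_right,
      le_rfl, (subgroupOf_self (tJ S)).symm ▸ inferInstance, pairNormal_of fun G _ _ P e K _ n h => ?_⟩, rfl⟩
    · haveI := zJ_characteristic (S := S)
      haveI : (⁅zJ S, (⊤ : Subgroup S)⁆).Normal := commutator_normal _ _
      refine CfsgLib.PGroup.inf_center_ne_bot hS _ fun h0 => hT (top_unique ?_)
      exact le_centralizer_iff.1 (commutator_eq_bot_iff_le_centralizer.1 h0)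
    · exact char_inf (char_commutator zJ_characteristic inferInstance) inferInstance
    · rw [Subgroup.map_inf _ _ _ (emb_injective e), map_commutator, map_zJ_emb, map_center_emb,
        ← MonoidHom.range_eq_map, emb_range, map_tJ_emb]
      exact h.inf_center_normal
  by_cases hZ : ∀ x ∈ center S, x ^ p = 1
  swap
  · push Not at hZ
    obtain ⟨x, hx, hxp⟩ := hZ
    refine Or.inl ⟨powerClosure p 1 (center S), tJ S, ⟨fun h0 => hxp ?_, htne, char_powerClosure p inferInstance,
      inferInstance, ?_, le_rfl, (subgroupOf_self (tJ S)).symm ▸ inferInstance,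
      pairNormal_of fun G _ _ P e K _ n h => ?_⟩, rfl⟩
    · rw [powerClosure_one_eq] at h0
      exact mem_bot.1 (h0 ▸ mem_powCl hx)
    · rw [powerClosure_one_eq]
      exact powCl_le_self p _
    · rw [powerClosure_one_eq, map_powCl, map_center_emb, ← powerClosure_one_eq, map_tJ_emb]
      exact h.powerClosure_normal
  have hmaxT : maxCentralProduct ↥(tJ S) = maxCentralProduct S :=
    maxCentralProduct_congr ((MulEquiv.subgroupCongr hT).trans Subgroup.topEquiv)
  by_cases hab : ∀ Q : Subgroup S, IsMinimalCentrallyLarge Q → IsMulCommutative ↥Q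
  swap
  · push Not at hab
    obtain ⟨Q, hQ, hQc⟩ := hab
    have hne : ⁅Q, Q⁆ ≠ ⊥ := fun h0 => hQc (le_centralizer_iff_isMulCommutative.1
      (commutator_eq_bot_iff_le_centralizer.1 h0))
    haveI hQd : (⁅Q, Q⁆).Characteristic := derived_characteristic hS hQ
    have hQle : Q ≤ minimalCentrallyLargeJoin S := le_sSup hQ
    refine Or.inl ⟨center S ⊓ ⁅Q, Q⁆, minimalCentrallyLargeJoin S, goodPair_of_top hT
      (fun h0 => CfsgLib.PGroup.inf_center_ne_bot hS _ hne (by rw [inf_comm, h0]))
      (fun h0 => hne (le_bot_iff.1 ((commutator_le_self Q).trans (hQle.trans h0.le))))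
      (char_inf inferInstance hQd) (characteristic_iff_map_eq.2 fun φ => map_MCLJoin φ) inf_le_left
      (pairNormal_of fun G _ _ P e K _ n h => ?_), (maxCentralProduct_of_le hQ.1 hQle).trans hmaxT.symm⟩
    rw [Subgroup.map_inf _ _ _ (emb_injective e), map_center_emb e, ← map_map, map_commutator,
      ← map_map (g := (P : Subgroup G).subtype) (K := minimalCentrallyLargeJoin S), map_MCLJoin e]
    exact h.MCL_join_normal (le_centralizer_of_top e hT) (isMCL_equiv e hQ)
  have hJ : thompsonSubgroupA S = ⊤ := (CLNormal.centralizer_center_thompson_eq hS hab).symm.trans hT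
  by_cases hs0 : s0 p S = ⊥
  swap
  · obtain ⟨S₁, S₂, h1, h2, c1, c2, hz, hm, hN⟩ := exists_pair hS hJ hZ hs0
    exact Or.inl ⟨S₁, S₂, goodPair_of_top hT h1 h2 c1 c2 hz hN, hm.trans hmaxT.symm⟩
  by_cases hcomm : IsMulCommutative S
  · refine Or.inl ⟨⊤, ⊤, goodPair_of_top hT top_ne_bot top_ne_bot inferInstance inferInstance
      (fun x _ => mem_center_iff.2 fun g => hcomm.1.comm g x) (pairNormal_of fun G _ _ P e K _ n h => Or.inl ?_),
      (maxCentralProduct_congr Subgroup.topEquiv).trans hmaxT.symm⟩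
    rw [← MonoidHom.range_eq_map, emb_range]
    have hle : (P : Subgroup G) ≤ pCore p G := fun x hx => h.cE (mem_centralizer_iff.2 fun y hy => by
      have := congrArg (fun z => ((e z : ↥(P : Subgroup G)) : G))
        (hcomm.1.comm (e.symm ⟨y, CfsgLib.Cores.pCore_le_sylow P hy⟩) (e.symm ⟨x, hx⟩))
      simpa using this)
    rw [le_antisymm hle (CfsgLib.Cores.pCore_le_sylow P)]
    infer_instance
  exact Or.inr ⟨hT, hab, hcomm, hJ, hZ, hs0⟩

/-- The conditions met by the remaining class. -/
theorem Residue.conditions [Nontrivial S] (r : Residue p S) (hS : IsPGroup p S) :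
    ¬ IsMulCommutative S ∧ thompsonSubgroupA S = ⊤ ∧ IsElementaryAbelian p (center S) ∧
      IsElementaryAbelian p (frattini S) ∧ (p = 2 → frattini S ≤ center S) ∧
      (p = 3 → frattini S ≤ Subgroup.upperCentralSeries S 2) ∧
      (3 < p → frattini S ≤ center S ∧ Monoid.exponent S = p) ∧
      (∀ A ∈ maxAbelianSubgroups S, ∀ B ∈ maxAbelianSubgroups S, ∀ Q : Subgroup S,
        Nat.card ↥A ^ 2 = Nat.card S * Nat.card ↥(center S) ∧
          Nat.card ↥Q * Nat.card ↥(center ↥Q) ≤ Nat.card S * Nat.card ↥(center S) ∧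
          ((A ⊔ B : Subgroup S) : Set S) = (A : Set S) * (B : Set S) ∧
          A ⊔ B = centralizer ((A ⊓ B : Subgroup S) : Set S)) := by
  have hp2 := hp.out.two_le
  have hw := r.word
  have hzc : ∀ x : S, ∀ g : S, ⁅x, g⁆ = 1 → g * x = x * g := fun x g h0 =>
    (commutatorElement_eq_one_iff_mul_comm.1 h0).symm
  have hcenter : p ≠ 3 → frattini S ≤ center S := fun hne => by
    have h0 : ⁅frattini S, (⊤ : Subgroup S)⁆ = ⊥ := by
      refine le_bot_iff.1 (hw ▸ ?_)
      rw [s0]
      split_ifs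
      exacts [le_sup_left, le_sup_left]
    exact fun x hx => mem_center_iff.2 fun g => hzc x g
      (mem_bot.1 (h0.le (commutator_mem_commutator hx (mem_top g))))
  have hphi : IsElementaryAbelian p (frattini S) := by
    by_cases hle : p ≤ 3
    · have h0 : (frattini ↥(frattini S)).map (frattini S).subtype = ⊥ := by
        refine le_bot_iff.1 (hw ▸ ?_)
        rw [s0]
        split_ifs
        exacts [le_sup_right, le_sup_right, by omega]
      have hle' := le_phiOf (hS.to_subgroup (frattini S))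
      refine ⟨le_centralizer_iff_isMulCommutative.1 (commutator_eq_bot_iff_le_centralizer.1
        (le_bot_iff.1 (hle'.1.trans h0.le))), fun x hx => mem_bot.1 (h0.le (hle'.2 x hx))⟩
    · have hc := hcenter (by omega)
      exact ⟨le_centralizer_iff_isMulCommutative.1 (hc.trans (center_le_centralizer _)),
        fun x hx => r.elem x (hc hx)⟩
  have htop : IsCentrallyLarge (⊤ : Subgroup S) := by
    obtain ⟨Q, hQ⟩ := exists_centrallyLarge (G := S)
    have h1 := CLNormal.isCentrallyLarge_sup_thompson hS hQ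
    rwa [r.thompson, sup_top_eq] at h1
  have hmax := maxCentralProduct_of_top hS r.thompson
  obtain ⟨T, -, hT⟩ := exists_minimalCentrallyLarge htop
  have hA : ∀ A ∈ maxAbelianSubgroups S, IsMinimalCentrallyLarge A ∧ centralizer (A : Set S) = A :=
    fun A hA => ⟨((Cfsg.Agent.S3007.result S hS T T hT hT).2.2.2.2 (r.mcl T hT) A).2 hA,
      CLNormal.centralizer_eq_of_mem hA⟩
  refine ⟨r.noncomm, r.thompson, ⟨inferInstance, r.elem⟩, hphi, fun h2 => hcenter (by omega), fun h3 => ?_,
    fun h3 => ⟨hcenter (by omega), ?_⟩, fun A hA' B hB' Q => ⟨?_, ?_, ?_, ?_⟩⟩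
  · have h0 : ⁅⁅frattini S, (⊤ : Subgroup S)⁆, (⊤ : Subgroup S)⁆ = ⊥ := by
      refine le_bot_iff.1 (hw ▸ ?_)
      rw [s0, if_neg (by omega), if_pos h3]
      exact le_sup_left
    intro x hx
    refine (Subgroup.mem_upperCentralSeries_succ_iff).2 fun y => ?_
    rw [Subgroup.upperCentralSeries_one, mem_center_iff]
    intro g
    exact hzc _ g (mem_bot.1 (h0.le
      (commutator_mem_commutator (commutator_mem_commutator hx (mem_top y)) (mem_top g))))
  · have h0 : powerClosure p 1 (⊤ : Subgroup S) = ⊥ := by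
      refine le_bot_iff.1 (hw ▸ ?_)
      rw [s0, if_neg (by omega), if_neg (by omega)]
      exact le_sup_right
    rw [powerClosure_one_eq] at h0
    rcases (Nat.dvd_prime hp.out).1 (Monoid.exponent_dvd_of_forall_pow_eq_one fun x : S =>
      mem_bot.1 (h0.le (mem_powCl (mem_top x)))) with e | e
    · obtain ⟨x, hx⟩ := exists_ne (1 : S)
      exact absurd (by simpa using Monoid.exponent_dvd_iff_forall_pow_eq_one.1 (dvd_of_eq e) x) hx
    · exact e
  · obtain ⟨hAm, hAA⟩ := hA A hA'
    haveI := hA'.1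
    rw [← hmax, ← show Nat.card A * Nat.card ↥(center ↥A) = _ from hAm.1, sq,
      Subgroup.center_eq_top_iff.2 hA'.1, Subgroup.card_top]
  · rw [← hmax, show Nat.card ↥(center ↥Q) = _ from card_czOf Q]
    exact measure_le Q
  · exact ((isCentrallyLarge_iff.1 (hA A hA').1.1).1.lattice (isCentrallyLarge_iff.1 (hA B hB').1.1).1).2.2.1
  · rw [((isCentrallyLarge_iff.1 (hA A hA').1.1).1.lattice (isCentrallyLarge_iff.1 (hA B hB').1.1).1).2.2.2.2,
      (hA A hA').2, (hA B hB').2]

end CfsgLib.LocalEven.PairUp
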