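import Cfsg.Agent.Lib.LocalEven.PushUp.Case2Type
import Cfsg.Agent.Lib.LocalEven.RankOne.CentrallyLargeFinal

/-!
The word subgroup `S₀` of a `p`-group; it is central in the two configurations.
-/

set_option autoImplicit false

namespace CfsgLib.LocalEven.PairUp

open Cfsg Subgroup
open CfsgLib.LocalEven.RankOne
open CfsgLib.LocalEven.PushUp
open scoped commutatorElement

section Defs

/-- The word subgroup of a group. -/
def s0 (p : ℕ) (T : Type*) [Group T] : Subgroup T :=
  if p = 2 then ⁅frattini T, (⊤ : Subgroup T)⁆ ⊔ (frattini ↥(frattini T)).map (frattini T).subtype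
  else if p = 3 then
    ⁅⁅frattini T, (⊤ : Subgroup T)⁆, (⊤ : Subgroup T)⁆ ⊔ (frattini ↥(frattini T)).map (frattini T).subtype
  else ⁅frattini T, (⊤ : Subgroup T)⁆ ⊔ Cfsg.powerClosure p 1 (⊤ : Subgroup T)

variable {G : Type*} [Group G]

/-- The word subgroup of a subgroup, inside the ambient group. -/
def wordOf (p : ℕ) (X : Subgroup G) : Subgroup G :=
  if p = 2 then ⁅phiOf X, X⁆ ⊔ phiOf (phiOf X)
  else if p = 3 then ⁅⁅phiOf X, X⁆, X⁆ ⊔ phiOf (phiOf X)
  else ⁅phiOf X, X⁆ ⊔ powCl p X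

theorem phiOf_le_self (X : Subgroup G) : phiOf X ≤ X := map_subtype_le _

theorem map_powCl {H : Type*} [Group H] (f : G →* H) (m : ℕ) (X : Subgroup G) :
    (powCl m X).map f = powCl m (X.map f) := by
  rw [powCl, powCl, MonoidHom.map_closure, ← Set.image_comp, coe_map, ← Set.image_comp]
  congr 1
  exact Set.image_congr fun x _ => map_pow f x m

theorem powerClosure_one_eq (p : ℕ) (X : Subgroup G) : powerClosure p 1 X = powCl p X := by
  rw [powerClosure, powCl]
  congr 1
  ext y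
  simp only [pow_one, Set.mem_ofPred_eq, Set.mem_image, SetLike.mem_coe]
  exact ⟨fun ⟨x, hx, e⟩ => ⟨x, hx, e.symm⟩, fun ⟨x, hx, e⟩ => ⟨x, hx, e.symm⟩⟩

theorem wordOf_map {H : Type*} [Group H] {f : G →* H} (hf : Function.Injective f) (p : ℕ) (X : Subgroup G) :
    (wordOf p X).map f = wordOf p (X.map f) := by
  unfold wordOf
  split_ifs <;> simp only [Subgroup.map_sup, map_commutator, phiOf_map hf, map_powCl]

theorem map_frattini_range {T : Type*} [Group T] {f : T →* G} (hf : Function.Injective f) :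
    (frattini T).map f = phiOf f.range := by
  rw [phiOf, ← CfsgLib.Invol.QDW.map_frattini (MonoidHom.ofInjective hf), map_map]
  rfl

theorem s0_map {T : Type*} [Group T] {f : T →* G} (hf : Function.Injective f) (p : ℕ) :
    (s0 p T).map f = wordOf p f.range := by
  have h1 : ((frattini ↥(frattini T)).map (frattini T).subtype).map f = phiOf (phiOf f.range) := by
    show (phiOf (frattini T)).map f = _
    rw [phiOf_map hf, map_frattini_range hf]
  unfold s0 wordOf
  split_ifs <;>
    simp only [Subgroup.map_sup, map_commutator, h1, map_frattini_range hf, ← MonoidHom.range_eq_map,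
      powerClosure_one_eq, map_powCl]

theorem s0_characteristic (p : ℕ) (T : Type*) [Group T] : (s0 p T).Characteristic :=
  characteristic_iff_map_eq.2 fun φ => by
    have h1 : (s0 p T).map φ.toMonoidHom = wordOf p φ.toMonoidHom.range := s0_map φ.injective p
    have h2 := s0_map (f := MonoidHom.id T) Function.injective_id p
    rw [Subgroup.map_id] at h2
    have h3 : (MonoidHom.id T).range = φ.toMonoidHom.range :=
      (MonoidHom.range_eq_top.2 Function.surjective_id).trans (MonoidHom.range_eq_top.2 φ.surjective).symm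
    rw [h1, h2, h3]

theorem s0_map_subtype (p : ℕ) (X : Subgroup G) : (s0 p ↥X).map X.subtype = wordOf p X := by
  rw [s0_map X.subtype_injective, range_subtype]

theorem wordOf_le (p : ℕ) (X : Subgroup G) : wordOf p X ≤ X := by
  rw [← s0_map_subtype]
  exact map_subtype_le _

theorem wordOf_normalizer (p : ℕ) {X : Subgroup G} {g : G} (hg : g ∈ normalizer (X : Set G)) {x : G}
    (hx : x ∈ wordOf p X) : g * x * g⁻¹ ∈ wordOf p X := by
  have h1 : X.map (MulAut.conj g).toMonoidHom = X := CfsgLib.Fusion.conjSub_eq_iff_mem_normalizer.2 hg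
  rw [← h1, ← wordOf_map (f := (MulAut.conj g).toMonoidHom) (MulAut.conj g).injective]
  exact ⟨x, hx, rfl⟩

theorem wordOf_normal (p : ℕ) (X : Subgroup G) [X.Normal] : (wordOf p X).Normal :=
  ⟨fun _ hx g => wordOf_normalizer p (by rw [normalizer_eq_top]; trivial) hx⟩

variable [Finite G] {p : ℕ} [hp : Fact p.Prime]

theorem phiOf_mono {X Y : Subgroup G} (hY : IsPGroup p Y) (h : X ≤ Y) : phiOf X ≤ phiOf Y :=
  phiOf_le (p := p) ((commutator_mono h h).trans (le_phiOf hY).1) fun x hx => (le_phiOf hY).2 x (h hx)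

theorem wordOf_mono {X Y : Subgroup G} (hY : IsPGroup p Y) (h : X ≤ Y) : wordOf p X ≤ wordOf p Y := by
  have h1 := phiOf_mono hY h
  have h2 := phiOf_mono (hY.to_le (phiOf_le_self Y)) h1
  unfold wordOf
  split_ifs
  · exact sup_le_sup (commutator_mono h1 h) h2
  · exact sup_le_sup (commutator_mono (commutator_mono h1 h) h) h2
  · exact sup_le_sup (commutator_mono h1 h) (powCl_mono h)

/-- A criterion for the word subgroup to be trivial. -/
theorem wordOf_eq_bot {E M : Subgroup G} (hM : phiOf E ≤ M) (hMc : ∀ x ∈ M, ∀ y ∈ M, x * y = y * x)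
    (hMp : ∀ x ∈ M, x ^ p = 1) (h2 : p ≠ 3 → ⁅M, E⁆ = ⊥) (h3 : ⁅⁅M, E⁆, E⁆ = ⊥)
    (hexp : 3 < p → ∀ x ∈ E, x ^ p = 1) : wordOf p E = ⊥ := by
  have hp' := hp.out
  have hPhi : phiOf (phiOf E) ≤ ⊥ := by
    refine phiOf_le (p := p) ?_ fun x hx => mem_bot.2 (hMp x (hM hx))
    exact commutator_le.2 fun x hx y hy => mem_bot.2
      (commutatorElement_eq_one_iff_mul_comm.2 (hMc x (hM hx) y (hM hy)))
  refine le_bot_iff.1 ?_
  unfold wordOf
  split_ifs with e2 e3
  · exact sup_le ((commutator_mono hM le_rfl).trans (h2 (by omega)).le) hPhi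
  · exact sup_le ((commutator_mono (commutator_mono hM le_rfl) le_rfl).trans h3.le) hPhi
  · have hlt : 3 < p := by
      have := hp'.two_le
      omega
    exact sup_le ((commutator_mono hM le_rfl).trans (h2 (by omega)).le)
      (powCl_le fun x hx => mem_bot.2 (hexp hlt x hx))

end Defs

section Product

variable {G : Type*} [Group G] {E C : Subgroup G}

theorem exists_mul_of_commute (hEC : ∀ x ∈ E, ∀ y ∈ C, x * y = y * x) {z : G} (hz : z ∈ E ⊔ C) :
    ∃ e ∈ E, ∃ c ∈ C, z = e * c := by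
  have hle : E ≤ normalizer (C : Set G) := fun e he =>
    CfsgLib.Fusion.conjSub_eq_iff_mem_normalizer.1 (by
      ext y
      rw [CfsgLib.Fusion.mem_conjSub]
      constructor
      · intro hy
        rw [show y = e * (e⁻¹ * y * e) * e⁻¹ by group, hEC e he _ hy, mul_inv_cancel_right]
        exact hy
      · intro hy
        rw [mul_assoc, ← hEC e he y hy, inv_mul_cancel_left]
        exact hy)
  rw [← SetLike.mem_coe, coe_mul_of_left_le_normalizer_right E C hle] at hz
  obtain ⟨e, he, c, hc, h⟩ := hz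
  exact ⟨e, he, c, hc, h.symm⟩

theorem commutator_sup_le (hEC : ∀ x ∈ E, ∀ y ∈ C, x * y = y * x) {A B : Subgroup G} (hA : A ≤ E) (hB : B ≤ C) :
    ⁅A ⊔ B, E ⊔ C⁆ ≤ ⁅A, E⁆ ⊔ ⁅B, C⁆ := by
  refine commutator_le.2 fun x hx y hy => ?_
  obtain ⟨a, ha, b, hb, rfl⟩ := exists_mul_of_commute (fun a ha b hb => hEC a (hA ha) b (hB hb)) hx
  obtain ⟨e, he, c, hc, rfl⟩ := exists_mul_of_commute hEC hy
  have h1 : Commute e b := hEC e he b (hB hb)
  have h2 : Commute a c := hEC a (hA ha) c hc
  have h3 : Commute e ⁅b, c⁆ := hEC e he _ (mul_mem (mul_mem (mul_mem (hB hb) hc) (inv_mem (hB hb))) (inv_mem hc))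
  have h4 : Commute a ⁅b, c⁆ := hEC a (hA ha) _
    (mul_mem (mul_mem (mul_mem (hB hb) hc) (inv_mem (hB hb))) (inv_mem hc))
  have k1 : ∀ X Y Z : G, ⁅X * Y, Z⁆ = X * ⁅Y, Z⁆ * X⁻¹ * ⁅X, Z⁆ := fun X Y Z => by
    simp only [commutatorElement_def]; group
  have k2 : ∀ X Y Z : G, ⁅X, Y * Z⁆ = ⁅X, Y⁆ * (Y * ⁅X, Z⁆ * Y⁻¹) := fun X Y Z => by
    simp only [commutatorElement_def]; group
  rw [k1, k2 b, k2 a, commutatorElement_eq_one_iff_mul_comm.2 h1.symm.eq,
    commutatorElement_eq_one_iff_mul_comm.2 h2.eq, one_mul, h3.eq, mul_inv_cancel_right, h4.eq, mul_inv_cancel_right,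
    mul_one, mul_inv_cancel, mul_one]
  exact mul_mem (mem_sup_right (commutator_mem_commutator hb hc)) (mem_sup_left (commutator_mem_commutator ha he))

variable [Finite G] {p : ℕ} [hp : Fact p.Prime]

theorem phiOf_sup_le (hE : IsPGroup p E) (hC : IsPGroup p C) (hEC : ∀ x ∈ E, ∀ y ∈ C, x * y = y * x) :
    phiOf (E ⊔ C) ≤ phiOf E ⊔ phiOf C := by
  refine phiOf_le (p := p) ?_ fun x hx => ?_
  · exact (commutator_sup_le hEC le_rfl le_rfl).trans (sup_le_sup (le_phiOf hE).1 (le_phiOf hC).1)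
  · obtain ⟨e, he, c, hc, rfl⟩ := exists_mul_of_commute hEC hx
    rw [(show Commute e c from hEC e he c hc).mul_pow]
    exact mul_mem (mem_sup_left ((le_phiOf hE).2 e he)) (mem_sup_right ((le_phiOf hC).2 c hc))

/-- The word subgroup of a central product. -/
theorem wordOf_sup_le (hS : IsPGroup p ↥(E ⊔ C)) (hEC : ∀ x ∈ E, ∀ y ∈ C, x * y = y * x) :
    wordOf p (E ⊔ C) ≤ wordOf p E ⊔ wordOf p C := by
  have hE : IsPGroup p E := hS.to_le le_sup_left
  have hC : IsPGroup p C := hS.to_le le_sup_right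
  have hPhi := phiOf_sup_le hE hC hEC
  have h1 : ⁅phiOf (E ⊔ C), E ⊔ C⁆ ≤ ⁅phiOf E, E⁆ ⊔ ⁅phiOf C, C⁆ :=
    (commutator_mono hPhi le_rfl).trans (commutator_sup_le hEC (phiOf_le_self E) (phiOf_le_self C))
  have h2 : ⁅⁅phiOf (E ⊔ C), E ⊔ C⁆, E ⊔ C⁆ ≤ ⁅⁅phiOf E, E⁆, E⁆ ⊔ ⁅⁅phiOf C, C⁆, C⁆ :=
    (commutator_mono h1 le_rfl).trans (commutator_sup_le hEC
      ((commutator_mono (phiOf_le_self E) le_rfl).trans (commutator_le_self E))
      ((commutator_mono (phiOf_le_self C) le_rfl).trans (commutator_le_self C)))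
  have h3 : phiOf (phiOf (E ⊔ C)) ≤ phiOf (phiOf E) ⊔ phiOf (phiOf C) :=
    (phiOf_mono (hS.to_le (sup_le_sup (phiOf_le_self E) (phiOf_le_self C))) hPhi).trans
      (phiOf_sup_le (hE.to_le (phiOf_le_self E)) (hC.to_le (phiOf_le_self C))
        fun x hx y hy => hEC x (phiOf_le_self E hx) y (phiOf_le_self C hy))
  have h4 : powCl p (E ⊔ C) ≤ powCl p E ⊔ powCl p C := powCl_le fun x hx => by
    obtain ⟨e, he, c, hc, rfl⟩ := exists_mul_of_commute hEC hx
    rw [(show Commute e c from hEC e he c hc).mul_pow]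
    exact mul_mem (mem_sup_left (mem_powCl he)) (mem_sup_right (mem_powCl hc))
  unfold wordOf
  split_ifs
  · exact sup_le (h1.trans (sup_le_sup le_sup_left le_sup_left)) (h3.trans (sup_le_sup le_sup_right le_sup_right))
  · exact sup_le (h2.trans (sup_le_sup le_sup_left le_sup_left)) (h3.trans (sup_le_sup le_sup_right le_sup_right))
  · exact sup_le (h1.trans (sup_le_sup le_sup_left le_sup_left)) (h4.trans (sup_le_sup le_sup_right le_sup_right))

end Product

variable {G : Type*} [Group G] [Finite G] {p n : ℕ} [hp : Fact p.Prime]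
variable {S : Sylow p G} {K : Subgroup G} [K.Normal]

/-- The word subgroup meets the centre centrally when `S` is a central product over the core. -/
theorem word_inf_le_center (h : Hyp n S K) {E C : Subgroup G} (hS : (S : Subgroup G) = E ⊔ C)
    (hEC : ∀ x ∈ E, ∀ y ∈ C, x * y = y * x) (hC : C ≤ pCore p G) (hE : wordOf p E = ⊥) :
    zS S ⊓ wordOf p (S : Subgroup G) ≤ center G := by
  obtain ⟨a, ha, haK⟩ : ∃ a ∈ E, a ∉ K := SetLike.not_le_iff_exists.1 fun hle =>
    h.sup_ne_top (top_unique (by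
      have h1 : (S : Subgroup G) ≤ K := hS.le.trans (sup_le hle (hC.trans h.pCore_le))
      obtain ⟨g, hg⟩ := h.two
      rw [← hg]
      refine sup_le (sup_le le_sup_left ?_) le_sup_right
      rintro _ ⟨x, hx, rfl⟩
      exact mem_sup_right ((inferInstance : K.Normal).conj_mem x (h1 hx) g)))
  have hSp : IsPGroup p ↥(E ⊔ C) := hS ▸ S.2
  have hwS : wordOf p (S : Subgroup G) ≤ wordOf p C := by
    have h1 := wordOf_sup_le hSp hEC
    rwa [hE, bot_sup_eq, ← hS] at h1
  have hwQ : wordOf p (S : Subgroup G) ≤ wordOf p (pCore p G) :=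
    hwS.trans (wordOf_mono (CfsgLib.Cores.isPGroup_pCore p) hC)
  have hQw : wordOf p (pCore p G) ≤ wordOf p C :=
    (wordOf_mono S.2 (CfsgLib.Cores.pCore_le_sylow S)).trans hwS
  haveI : (wordOf p (pCore p G)).Normal := wordOf_normal p _
  exact h.le_center_of (C := centralizer (wordOf p (pCore p G) : Set G)) inferInstance
    (fun hle => haK (hle (mem_centralizer_iff.2 fun x hx => (hEC a ha x (wordOf_le p C (hQw hx))).symm)))
    (centralizer_le (SetLike.coe_subset_coe.2 (inf_le_right.trans hwQ)))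
    (le_centralizer_iff.1 (inf_le_left.trans inf_le_right))

variable {W A H C B : Subgroup G} [W.Normal]

theorem case_one_kill (c : Case1 S A B) (m : MemHyp n S K) {F : Type} [Field F] (f : MemFacts F n S m.hyp) :
    zS S ⊓ wordOf p (S : Subgroup G) ≤ center G := by
  have h := m.hyp
  have hBS : B ≤ (S : Subgroup G) := c.B_le.trans (CfsgLib.Cores.pCore_le_sylow S)
  have hES : A ⊔ vS S ≤ (S : Subgroup G) := sup_le c.A_le h.vS_le_S
  have hEC : ∀ x ∈ A ⊔ vS S, ∀ y ∈ B, x * y = y * x := by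
    have hle : A ⊔ vS S ≤ centralizer (B : Set G) := sup_le
      (fun a ha => mem_centralizer_iff.2 fun b hb => (c.AB a ha b hb).symm)
      fun v hv => mem_centralizer_iff.2 fun b hb => h.vS_comm hv (c.B_le hb)
    exact fun x hx y hy => (mem_centralizer_iff.1 (hle hx) y hy).symm
  have hS : (S : Subgroup G) = A ⊔ vS S ⊔ B := by
    refine le_antisymm (c.cover.trans (sup_le (le_sup_of_le_left le_sup_left) (c.core_le.trans ?_)))
      (sup_le hES hBS)
    exact sup_le (le_sup_of_le_left le_sup_right) le_sup_right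
  refine word_inf_le_center h hS hEC c.B_le ?_
  have hdec : ∀ x ∈ A ⊔ vS S, ∃ a ∈ A, ∃ v ∈ vS S, x = a * v := by
    intro x hx
    rw [← SetLike.mem_coe, mul_normal] at hx
    obtain ⟨a, ha, v, hv, e⟩ := hx
    exact ⟨a, ha, v, hv, e.symm⟩
  have k1 : ∀ X Y Z : G, ⁅X * Y, Z⁆ = X * ⁅Y, Z⁆ * X⁻¹ * ⁅X, Z⁆ := fun X Y Z => by
    simp only [commutatorElement_def]; group
  have k2 : ∀ X Y Z : G, ⁅X, Y * Z⁆ = ⁅X, Y⁆ * (Y * ⁅X, Z⁆ * Y⁻¹) := fun X Y Z => by
    simp only [commutatorElement_def]; group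
  have hz : ∀ {z}, z ∈ zS S → ∀ s ∈ (S : Subgroup G), s * z * s⁻¹ = z := fun {z} hz s hs => by
    rw [mem_centralizer_iff.1 hz.2 s hs, mul_inv_cancel_right]
  have hpow : ∀ x ∈ A ⊔ vS S, x ^ p ∈ zS S ∧ (p ≠ 2 → x ^ p = 1) := by
    intro x hx
    obtain ⟨a, ha, v, hv, rfl⟩ := hdec x hx
    have hc := f.comm_mem a (c.A_le ha) v hv
    have hcS := mem_centralizer_iff.1 hc.2
    have hav : Commute (a * v) ⁅a, v⁆ := hcS _ (mul_mem (c.A_le ha) (h.vS_le_S hv))
    rw [mul_pow_class2 (c := ⁅a, v⁆⁻¹) (x := a) (y := v) ?_ ?_ ?_, c.A_pow a ha, f.pow v hv, one_mul, one_mul]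
    · refine ⟨pow_mem (inv_mem hc) _, fun hp2 => ?_⟩
      obtain ⟨i, hi⟩ : p ∣ p.choose 2 := hp.out.dvd_choose_self (by norm_num)
        (lt_of_le_of_ne hp.out.two_le (Ne.symm hp2))
      rw [hi, pow_mul, inv_pow, m.elem _ hc, inv_one, one_pow]
    · calc v * a = ⁅a, v⁆⁻¹ * (a * v) := by simp only [commutatorElement_def]; group
        _ = a * v * ⁅a, v⁆⁻¹ := hav.inv_right.eq.symm
    · exact (show Commute a ⁅a, v⁆ from hcS a (c.A_le ha)).inv_right.symm
    · exact (show Commute v ⁅a, v⁆ from hcS v (h.vS_le_S hv)).inv_right.symm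
  have hcomm : ⁅A ⊔ vS S, A ⊔ vS S⁆ ≤ zS S := by
    refine commutator_le.2 fun x hx y hy => ?_
    obtain ⟨a, ha, v, hv, rfl⟩ := hdec x hx
    obtain ⟨a', ha', v', hv', rfl⟩ := hdec y hy
    have z1 : ⁅v, a'⁆ ∈ zS S := commutatorElement_inv a' v ▸ inv_mem (f.comm_mem a' (c.A_le ha') v hv)
    have z2 := f.comm_mem a (c.A_le ha) v' hv'
    rw [k1, k2 v, k2 a, commutatorElement_eq_one_iff_mul_comm.2 (h.vS_comm hv' (h.vS_le hv).1),
      commutatorElement_eq_one_iff_mul_comm.2 (c.A_comm a ha a' ha'), mul_one, mul_inv_cancel, mul_one, one_mul,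
      hz z1 a (c.A_le ha), hz z2 a' (c.A_le ha')]
    exact mul_mem z1 z2
  refine wordOf_eq_bot (M := zS S) (phiOf_le (p := p) hcomm fun x hx => (hpow x hx).1)
    (fun x hx y hy => (mem_centralizer_iff.1 hy.2 x hx.1)) m.elem (fun _ => ?_) ?_
    fun hp3 x hx => (hpow x hx).2 (by omega)
  · rw [commutator_eq_bot_iff_le_centralizer]
    exact inf_le_right.trans (centralizer_le hES)
  · refine le_bot_iff.1 ((commutator_mono ?_ le_rfl).trans (commutator_bot_left _).le)
    rw [le_bot_iff, commutator_eq_bot_iff_le_centralizer]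
    exact inf_le_right.trans (centralizer_le hES)

theorem case_two_kill {n : ℕ} (c : Case2 n S W A H C) (m : MemHyp n S K) (F : Type) [Field F] [Fintype F]
    (hF : Fintype.card F = p ^ n) : zS S ⊓ wordOf p (S : Subgroup G) ≤ center G := by
  have f := m.facts F hF
  have h3 := c.eq_three m F hF
  set W' := W ⊓ centralizer (C : Set G) with hW'
  have hQS := CfsgLib.Cores.pCore_le_sylow (p := p) S
  have hWS : W ≤ (S : Subgroup G) := c.W_le.trans hQS
  have hCS : C ≤ (S : Subgroup G) := c.C_le.trans hQS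
  set E := W' ⊔ A with hE
  have hEC : ∀ x ∈ E, ∀ y ∈ C, x * y = y * x := by
    have hle : E ≤ centralizer (C : Set G) := sup_le inf_le_right
      fun a ha => mem_centralizer_iff.2 fun y hy => (c.AC a ha y hy).symm
    exact fun x hx y hy => (mem_centralizer_iff.1 (hle hx) y hy).symm
  have hES : E ≤ (S : Subgroup G) := sup_le (inf_le_left.trans hWS) c.A_le
  have hS : (S : Subgroup G) = E ⊔ C := by
    refine le_antisymm (c.cover.trans (sup_le (le_sup_of_le_left le_sup_right) (c.gen.trans ?_)))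
      (sup_le hES hCS)
    exact sup_le (le_sup_of_le_left le_sup_left) le_sup_right
  refine word_inf_le_center m.hyp hS hEC c.C_le ?_
  have hdec : ∀ x ∈ E, ∃ u ∈ W, ∃ a ∈ A, x = u * a := by
    intro x hx
    have h1 : x ∈ W ⊔ A := (sup_le_sup inf_le_left le_rfl : E ≤ W ⊔ A) hx
    rw [← SetLike.mem_coe, normal_mul] at h1
    obtain ⟨u, hu, a, ha, e⟩ := h1
    exact ⟨u, hu, a, ha, e.symm⟩
  have k2 : ∀ X Y Z : G, ⁅X, Y * Z⁆ = ⁅X, Y⁆ * (Y * ⁅X, Z⁆ * Y⁻¹) := fun X Y Z => by
    simp only [commutatorElement_def]; group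
  have hcm : ∀ u ∈ W, ∀ v ∈ W, ⁅u, v⁆ ∈ H ∧ ⁅u, v⁆ ∈ zS S := fun u hu v hv => by
    have h1 := commutator_le_right ⊤ W (commutator_mem_commutator (mem_top u) hv)
    have h2 := c.comm u (c.W_le hu) v hv
    exact ⟨c.toCore2.center_mem m f h1 h2, c.toCore2.zS_of_center h1 h2⟩
  have hconj : ∀ u ∈ W, ∀ x ∈ H, u * x * u⁻¹ ∈ H := fun u hu x hx => by
    rw [show u * x * u⁻¹ = ⁅u, x⁆ * x by simp [commutatorElement_def]]
    exact mul_mem (hcm u hu x (c.H_le hx)).1 hx
  set D := ⁅E, E⁆ with hD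
  have h1E : D ≤ H := by
    refine commutator_le.2 fun x hx y hy => ?_
    obtain ⟨u, hu, a, ha, rfl⟩ := hdec x hx
    obtain ⟨u', hu', a', ha', rfl⟩ := hdec y hy
    rw [show ⁅u * a, u' * a'⁆ = u * ⁅a, u' * a'⁆ * u⁻¹ * ⁅u, u' * a'⁆ by simp only [commutatorElement_def]; group]
    refine mul_mem (hconj u hu _ ?_) ?_
    · rw [k2, commutatorElement_eq_one_iff_mul_comm.2 (c.A_comm a ha a' ha'), mul_one, mul_inv_cancel, mul_one]
      exact c.comm_W a ha u' hu'
    · rw [k2, ← commutatorElement_inv a' u]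
      exact mul_mem (hcm u hu u' hu').1 (hconj u' hu' _ (inv_mem (c.comm_W a' ha' u hu)))
  have h2E : ⁅D, E⁆ ≤ zS S := by
    refine (commutator_mono h1E le_rfl).trans (commutator_le.2 fun x hx y hy => ?_)
    obtain ⟨u, hu, a, ha, rfl⟩ := hdec y hy
    have h1 := inv_mem (c.comm_H a ha x hx)
    rw [k2, ← commutatorElement_inv a x, mem_centralizer_iff.1 h1.2 u (hWS hu), mul_inv_cancel_right]
    exact mul_mem (hcm x (c.H_le hx) u hu).2 h1
  have h3E : ⁅zS S, E⁆ = ⊥ := by
    rw [commutator_eq_bot_iff_le_centralizer]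
    exact inf_le_right.trans (centralizer_le hES)
  have hDD : ⁅D, D⁆ = ⊥ := by
    refine commutator_commutator_eq_bot_of_rotate ?_ ?_
    · refine le_bot_iff.1 ((commutator_mono ?_ le_rfl).trans h3E.le)
      rw [commutator_comm]
      exact h2E
    · exact le_bot_iff.1 ((commutator_mono h2E le_rfl).trans h3E.le)
  -- cubes
  have hcube : ∀ x ∈ E, x ^ p ∈ zS S := by
    intro x hx
    obtain ⟨u, hu, a, ha, rfl⟩ := hdec x hx
    set g := ⁅a, u⁆ with hg
    set k := ⁅a, g⁆ with hk
    set d := ⁅u, g⁆ with hd'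
    have hgH : g ∈ H := c.comm_W a ha u hu
    have hkz : k ∈ zS S := c.comm_H a ha g hgH
    have hdz : d ∈ zS S := (hcm u hu g (c.H_le hgH)).2
    have hku : Commute k u := (mem_centralizer_iff.1 hkz.2 u (hWS hu)).symm
    have hkg : Commute k g := (mem_centralizer_iff.1 hkz.2 g (hWS (c.H_le hgH))).symm
    have hdu : Commute d u := (mem_centralizer_iff.1 hdz.2 u (hWS hu)).symm
    have hdg : Commute d g := (mem_centralizer_iff.1 hdz.2 g (hWS (c.H_le hgH))).symm
    have e1 : a * u = g * u * a := by simp only [hg, commutatorElement_def]; group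
    have e2 : a * g = k * g * a := by simp only [hk, commutatorElement_def]; group
    have e3 : u * g = d * g * u := by simp only [hd', commutatorElement_def]; group
    have hg3 : g ^ 3 = 1 := by
      have := c.powW c.ne_two g (c.H_le hgH)
      rwa [h3] at this
    have hu3 : u ^ 3 = 1 := by
      have := c.powW c.ne_two u hu
      rwa [h3] at this
    have ha3 : a ^ 3 = 1 := by
      have := c.A_pow a ha
      rwa [h3] at this
    rw [show (u * a) ^ p = (u * a) ^ 3 from congrArg _ h3, show (u * a) ^ 3 = k * d ^ 5 by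
      have r1 : a * a * u = k * g * g * u * (a * a) := by
        calc a * a * u = a * (a * u) := by group
          _ = (a * g) * (u * a) := by rw [e1]; group
          _ = k * g * (a * u) * a := by rw [e2]; group
          _ = _ := by rw [e1]; group
      have s1 : ∀ X, u * (g * X) = d * (g * (u * X)) := fun X => by
        rw [← mul_assoc u g, e3, mul_assoc, mul_assoc]
      have s2 : ∀ X, u * (k * X) = k * (u * X) := fun X => by rw [← mul_assoc, ← hku.eq, mul_assoc]
      have s3 : ∀ X, g * (k * X) = k * (g * X) := fun X => by rw [← mul_assoc, ← hkg.eq, mul_assoc]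
      have s4 : ∀ X, u * (d * X) = d * (u * X) := fun X => by rw [← mul_assoc, ← hdu.eq, mul_assoc]
      have s5 : ∀ X, g * (d * X) = d * (g * X) := fun X => by rw [← mul_assoc, ← hdg.eq, mul_assoc]
      calc (u * a) ^ 3 = u * (a * u) * a * (u * a) := by simp only [pow_succ, pow_zero, one_mul]; group
        _ = u * g * u * (a * a * u) * a := by rw [e1]; group
        _ = u * g * u * k * g * g * u * (a ^ 3) := by rw [r1]; simp only [pow_succ, pow_zero, one_mul]; group
        _ = u * (g * (u * (k * (g * (g * u))))) := by rw [ha3, mul_one]; group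
        _ = k * (d * (d * (d * (d * (d * (g * (g * (g * (u * (u * u)))))))))) := by simp only [s1, s2, s3, s4, s5]
        _ = k * d ^ 5 * (g ^ 3 * u ^ 3) := by simp only [pow_succ, pow_zero, one_mul]; group
        _ = k * d ^ 5 := by rw [hg3, hu3, one_mul, mul_one]]
    exact mul_mem hkz (pow_mem hdz 5)
  haveI hDn : ∀ x ∈ D, x ∈ (S : Subgroup G) := fun x hx => hWS (c.H_le (h1E hx))
  refine wordOf_eq_bot (M := D ⊔ zS S) (phiOf_le (p := p) le_sup_left fun x hx => mem_sup_right (hcube x hx))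
    ?_ ?_ (fun hne => absurd h3 hne) ?_ fun hp3 => absurd hp3 (by omega)
  · intro x hx y hy
    have hle : D ⊔ zS S ≤ centralizer ((D ⊔ zS S : Subgroup G) : Set G) := by
      refine sup_le ?_ ?_ <;> rw [le_centralizer_iff] <;> refine sup_le ?_ ?_
      · exact commutator_eq_bot_iff_le_centralizer.1 hDD
      · exact inf_le_right.trans (centralizer_le hDn)
      · exact le_centralizer_iff.1 (inf_le_right.trans (centralizer_le hDn))
      · exact inf_le_right.trans (centralizer_le inf_le_left)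
    exact mem_centralizer_iff.1 (hle hy) x hx
  · intro x hx
    exact c.powW c.ne_two x ((sup_le (h1E.trans c.H_le) ((zS_le_vS S).trans c.toCore2.V_le_W) :
      D ⊔ zS S ≤ W) hx)
  · refine le_bot_iff.1 ((commutator_mono ?_ le_rfl).trans h3E.le)
    refine commutator_le.2 fun x hx y hy => ?_
    obtain ⟨d, hd, z, hz, rfl⟩ := exists_mul_of_commute
      (fun d hd z (hz : z ∈ zS S) => mem_centralizer_iff.1 hz.2 d (hDn d hd)) hx
    rw [show ⁅d * z, y⁆ = d * ⁅z, y⁆ * d⁻¹ * ⁅d, y⁆ by simp only [commutatorElement_def]; group,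
      commutatorElement_eq_one_iff_mul_comm.2 (mem_centralizer_iff.1 hz.2 y (hES hy)).symm, mul_one,
      mul_inv_cancel, one_mul]
    exact h2E (commutator_mem_commutator hd hy)

end CfsgLib.LocalEven.PairUp
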