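import Cfsg.Agent.Lib.LocalEven.PairUp.Family
import Cfsg.Agent.Lib.LocalEven.PairUp.Word
import Cfsg.Agent.Lib.Transfer.FusionGlauberman

/-!
Selecting the two characteristic subgroups.
-/

set_option autoImplicit false

namespace CfsgLib.LocalEven.PairUp

open Cfsg Subgroup
open CfsgLib.LocalEven.RankOne
open CfsgLib.LocalEven.PushUp
open CfsgLib.PStab
open CfsgLib.Fusion (conjSub mem_conjSub conj_mem_conjSub)
open scoped commutatorElement

universe u

section Transport

variable {S₀ : Type*} [Group S₀] {G : Type*} [Group G] {p : ℕ} {τ : S₀ →* G} {P : Sylow p G}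

theorem map_center_eq_zS (hτ : Function.Injective τ) (hr : (P : Subgroup G) = τ.range) :
    (center S₀).map τ = zS P := by
  ext x
  constructor
  · rintro ⟨z, hz, rfl⟩
    refine ⟨hr ▸ ⟨z, rfl⟩, mem_centralizer_iff.2 fun y hy => ?_⟩
    obtain ⟨t, rfl⟩ : y ∈ τ.range := hr ▸ hy
    rw [← map_mul, ← map_mul, mem_center_iff.1 hz t]
  · rintro ⟨hx, hc⟩
    obtain ⟨z, rfl⟩ : x ∈ τ.range := hr ▸ hx
    refine ⟨z, mem_center_iff.2 fun t => hτ ?_, rfl⟩
    rw [map_mul, map_mul]
    exact mem_centralizer_iff.1 hc (τ t) (hr ▸ ⟨t, rfl⟩)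

theorem map_center_word (hτ : Function.Injective τ) (hr : (P : Subgroup G) = τ.range) :
    (center S₀ ⊓ s0 p S₀).map τ = zS P ⊓ wordOf p (P : Subgroup G) := by
  rw [Subgroup.map_inf _ _ τ hτ, map_center_eq_zS hτ hr, s0_map hτ, hr]

theorem jGen_range {H : Type*} [Group H] {f : S₀ →* H} (hf : Function.Injective f)
    (hJ : thompsonSubgroupA S₀ = ⊤) : jGen 0 f.range = f.range := by
  rw [CfsgLib.Transfer.thompsonSubgroupA_eq] at hJ
  rw [MonoidHom.range_eq_map, jGen_map hf, hJ]

theorem normalizer_le_of_char [Finite G] (hτ : Function.Injective τ) (X : Subgroup S₀) [hX : X.Characteristic] :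
    normalizer (τ.range : Set G) ≤ normalizer (X.map τ : Set G) := by
  intro g hg
  have hmem : ∀ h ∈ normalizer (τ.range : Set G), ∀ x ∈ X.map τ, h * x * h⁻¹ ∈ X.map τ := by
    intro h hh x hx
    obtain ⟨s, hs, rfl⟩ := hx
    have hrng : conjSub h τ.range = τ.range := CfsgLib.Fusion.conjSub_eq_iff_mem_normalizer.2 hh
    let ψ : S₀ ≃* ↥τ.range := MonoidHom.ofInjective hτ
    let β : S₀ ≃* S₀ :=
      (ψ.trans ((τ.range.equivMapOfInjective (MulAut.conj h).toMonoidHom (MulAut.conj h).injective).trans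
        (MulEquiv.subgroupCongr hrng))).trans ψ.symm
    refine ⟨β s, characteristic_iff_map_le.1 hX β ⟨s, hs, rfl⟩, ?_⟩
    have := congrArg Subtype.val (ψ.apply_symm_apply
      ((MulEquiv.subgroupCongr hrng) (τ.range.equivMapOfInjective (MulAut.conj h).toMonoidHom
        (MulAut.conj h).injective (ψ s))))
    exact this
  exact CfsgLib.Solvable.mem_normalizer_of_conj_mem (hmem g hg)

variable [Finite G] [hp : Fact p.Prime] {n : ℕ} {K : Subgroup G} [K.Normal]

/-- The hypotheses on a member from those on the group. -/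
theorem memHyp_pair (h : Hyp n P K) (hT : TorusComm p (G ⧸ K)) (hτ : Function.Injective τ)
    (hr : (P : Subgroup G) = τ.range) (hJ : thompsonSubgroupA S₀ = ⊤) (hZ : ∀ x ∈ center S₀, x ^ p = 1)
    (hnc : ¬ zS P ≤ center G) (Q : Sylow p G) : MemHyp n Q K := by
  obtain ⟨g, hg⟩ := PushUp.exists_conj P Q
  set f := (MulAut.conj g).toMonoidHom.comp τ with hf
  have hfi : Function.Injective f := (MulAut.conj g).injective.comp hτ
  have hfr : (Q : Subgroup G) = f.range := by rw [hg, hr, hf, MonoidHom.range_comp]; rfl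
  refine ⟨hyp_conj h Q, hT, fun hc => hnc fun x hx => ?_, ?_, ?_⟩
  · have h1 : g * x * g⁻¹ ∈ center G := hc (by rw [zS_conj hg]; exact conj_mem_conjSub hx)
    have := (inferInstance : (center G).Normal).conj_mem _ h1 g⁻¹
    simpa [mul_assoc] using this
  · intro hle
    rw [hfr, jGen_range hfi hJ, ← hfr] at hle
    exact not_le_pCore (hyp_conj h Q) (hle.trans (hyp_conj h Q).pCore_le)
  · intro x hx
    rw [← map_center_eq_zS hfi hfr] at hx
    obtain ⟨z, hz, rfl⟩ := hx
    rw [← map_pow, hZ z hz, map_one]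

omit [K.Normal] in
/-- A killed word subgroup is killed at every Sylow subgroup. -/
theorem word_center_conj {Q : Sylow p G} (h : zS Q ⊓ wordOf p (Q : Subgroup G) ≤ center G) :
    zS P ⊓ wordOf p (P : Subgroup G) ≤ center G := by
  obtain ⟨g, hg⟩ := PushUp.exists_conj P Q
  intro x hx
  have h1 : g * x * g⁻¹ ∈ center G := by
    refine h ⟨(zS_conj hg).ge (conj_mem_conjSub hx.1), ?_⟩
    rw [hg, conjSub, ← wordOf_map (f := (MulAut.conj g).toMonoidHom) (MulAut.conj g).injective]
    exact ⟨x, hx.2, rfl⟩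
  have := (inferInstance : (center G).Normal).conj_mem _ h1 g⁻¹
  simpa [mul_assoc] using this

end Transport

/-- A member over `S₀`. -/
structure Mem (p : ℕ) [Fact p.Prime] (S₀ : Type u) [Group S₀] where
  /-- the group -/
  G : Type u
  [grp : Group G]
  [fin : Finite G]
  /-- the Sylow subgroup -/
  P : Sylow p G
  /-- the embedding -/
  τ : S₀ →* G
  inj : Function.Injective τ
  range : (P : Subgroup G) = τ.range
  /-- the kernel -/
  K : Subgroup G
  [nor : K.Normal]
  /-- the field degree -/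
  n : ℕ
  mem : ∀ Q : Sylow p G, MemHyp n Q K

attribute [instance] Mem.grp Mem.fin Mem.nor

variable {p : ℕ} [hp : Fact p.Prime] {S₀ : Type u} [Group S₀]

/-- The selection, from the facts about the single members. -/
theorem exists_pair_of [Finite S₀] (hS : IsPGroup p S₀) (hJ : thompsonSubgroupA S₀ = ⊤)
    (hZ : ∀ x ∈ center S₀, x ^ p = 1) (hs0 : s0 p S₀ ≠ ⊥)
    (hmeet : ∀ m : Mem p S₀, 3 ≤ p ^ m.n → ∀ X : Subgroup m.G, X ≤ zS m.P →
      normalizer ((m.P : Subgroup m.G) : Set m.G) ≤ normalizer (X : Set m.G) →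
      X ⊓ ⁅(m.P : Subgroup m.G), vS m.P⁆ = ⊥ → X ≤ center m.G)
    (htwo : ∀ m : Mem p S₀, p ^ m.n = 2 → ¬ zS m.P ⊓ wordOf p (m.P : Subgroup m.G) ≤ center m.G →
      ⁅(m.P : Subgroup m.G), vS m.P⁆ ≤ wordOf p (m.P : Subgroup m.G))
    (hmeas : ∀ m : Mem p S₀, maxCentralProduct S₀ ≤ Nat.card ↥(vS m.P) * Nat.card ↥(pCore p m.G)) :
    ∃ S₁ S₂ : Subgroup S₀, S₁ ≠ ⊥ ∧ S₂ ≠ ⊥ ∧ S₁.Characteristic ∧ S₂.Characteristic ∧ S₁ ≤ center S₀ ∧
      maxCentralProduct ↥S₂ = maxCentralProduct S₀ ∧
      ∀ (G : Type u) [Group G] [Finite G] (P : Subgroup G) (e : S₀ ≃* ↥P), Cfsg.IsPushingUpSituation p P →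
        (S₁.map ((P.subtype).comp (e : S₀ ≃* ↥P).toMonoidHom)).Normal ∨
          (S₂.map ((P.subtype).comp (e : S₀ ≃* ↥P).toMonoidHom)).Normal := by
  classical
  by_contra hnone
  haveI hnt : Nontrivial S₀ := by
    by_contra h
    rw [not_nontrivial_iff_subsingleton] at h
    exact hs0 (Subsingleton.elim _ _)
  set M₀ := maxCentralProduct S₀
  have hM₀ : 1 < M₀ := by
    have h1 := measure_le_max (⊤ : Subgroup S₀)
    rw [card_top] at h1
    exact lt_of_lt_of_le (Finite.one_lt_card (α := S₀))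
      (le_trans (Nat.le_mul_of_pos_right _ Nat.card_pos) h1)
  let I := {x : Subgroup S₀ × Subgroup S₀ //
    x.1.Characteristic ∧ x.1 ≠ ⊥ ∧ x.1 ≤ center S₀ ∧ x.2.Characteristic ∧ maxCentralProduct ↥x.2 = M₀}
  have hI : ∀ x : I, ∃ m : Mem p S₀, ¬ (x.1.1.map m.τ).Normal ∧ ¬ (x.1.2.map m.τ).Normal := by
    rintro ⟨⟨X, D⟩, hXc, hXne, hXz, hDc, hD⟩
    by_contra hall
    refine hnone ⟨X, D, hXne, fun hb => ?_, hXc, hDc, hXz, hD, fun G _ _ P e hE => ?_⟩
    · subst hb
      have h1 : maxCentralProduct ↥(⊥ : Subgroup S₀) ≤ 1 := by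
        refine csSup_le ⟨_, ⊥, rfl⟩ ?_
        rintro k ⟨R, rfl⟩
        rw [Nat.card_unique, Nat.card_unique]
      exact absurd (hD ▸ h1) (by omega)
    · obtain ⟨-, ⟨P', rfl⟩, hc, hu, K, hK, F, _, _, n, hF, he⟩ := hE
      have hn : 1 ≤ n := Nat.pos_of_ne_zero fun h0 => by
        subst h0
        exact (Fintype.one_lt_card (α := F)).ne' (by rw [hF, pow_zero])
      set τ := ((P' : Subgroup G).subtype).comp e.toMonoidHom with hτ
      have hτi : Function.Injective τ := (P' : Subgroup G).subtype_injective.comp e.injective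
      have hτr : (P' : Subgroup G) = τ.range := by
        rw [hτ, MonoidHom.range_comp, MonoidHom.range_eq_top.2 e.surjective, ← MonoidHom.range_eq_map,
          range_subtype]
      by_contra hor
      refine hall ⟨⟨G, P', τ, hτi, hτr, K, n, memHyp_pair (hyp_of_equiv P' hc hu K F n hn hF he)
        (torusComm_of_equiv K F n hn hF he) hτi hτr hJ hZ fun hle => hor (Or.inl ?_)⟩, fun h => hor (Or.inl h),
          fun h => hor (Or.inr h)⟩
      exact normal_of_le_center (((Subgroup.map_mono hXz).trans (map_center_eq_zS hτi hτr).le).trans hle)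
  choose mem hmem using hI
  -- pure subgroups
  let Pure : Subgroup S₀ → Prop := fun Y => ∀ x : I, p ^ (mem x).n = 2 →
    ¬ Y.map (mem x).τ ≤ center (mem x).G →
      ⁅vS (mem x).P, ((mem x).P : Subgroup (mem x).G)⁆ ≤ Y.map (mem x).τ
  have hF : ∀ m : Mem p S₀, ∃ (F : Type) (_ : Field F) (_ : Fintype F), Fintype.card F = p ^ m.n := fun m =>
    have hn : m.n ≠ 0 := Nat.one_le_iff_ne_zero.1 (m.mem m.P).hyp.pos
    ⟨GaloisField p m.n, inferInstance, Fintype.ofFinite _, by
      letI := Fintype.ofFinite (GaloisField p m.n)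
      rw [← Nat.card_eq_fintype_card, GaloisField.card p m.n hn]⟩
  haveI hs0c : (s0 p S₀).Characteristic := s0_characteristic p S₀
  have htop : center S₀ ⊓ s0 p S₀ ≠ ⊥ := fun h0 =>
    CfsgLib.PGroup.inf_center_ne_bot hS _ hs0 (by rw [inf_comm, h0])
  obtain ⟨X, ⟨hXne, hXc, hXle, hXp⟩, hXmin⟩ := wellFounded_lt.has_min
    {Y : Subgroup S₀ | Y ≠ ⊥ ∧ Y.Characteristic ∧ Y ≤ center S₀ ⊓ s0 p S₀ ∧ Pure Y}
    ⟨_, htop, inferInstance, le_rfl, fun x hq hn => by
      obtain ⟨F, _, _, hFc⟩ := hF (mem x)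
      rw [map_center_word (mem x).inj (mem x).range, commutator_comm] at *
      refine le_inf (commutator_le.2 fun s hs v hv => ?_) (htwo _ hq hn)
      exact (((mem x).mem (mem x).P).facts F hFc).comm_mem s hs v hv⟩
  haveI := hXc
  have hXz : X ≤ center S₀ := hXle.trans inf_le_left
  let I' := {x : I // ¬ X.map (mem x).τ ≤ center (mem x).G}
  haveI : Nonempty I' := by
    let x : I := ⟨(X, ⊤), hXc, hXne, hXz, inferInstance, le_antisymm
      (maxCentralProduct_le_of_injective (⊤ : Subgroup S₀).subtype_injective)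
      (maxCentralProduct_le_of_injective (f := (topEquiv.symm : S₀ ≃* ↥(⊤ : Subgroup S₀)).toMonoidHom)
        (MulEquiv.injective _))⟩
    exact ⟨⟨x, fun h => (hmem x).1 (normal_of_le_center h)⟩⟩
  have fam : Fam (fun i : I' => (mem i.1).τ) (fun i => (mem i.1).n) (fun i => (mem i.1).P)
      (fun i => (mem i.1).K) :=
    ⟨fun i => (mem i.1).inj, fun i => (mem i.1).range, fun i => (mem i.1).mem⟩
  have hXi : ∀ i : I', X.map (mem i.1).τ ≤
      zS (mem i.1).P ⊓ wordOf p ((mem i.1).P : Subgroup (mem i.1).G) := fun i =>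
    (Subgroup.map_mono hXle).trans (map_center_word (mem i.1).inj (mem i.1).range).le
  obtain ⟨D, hDc, hD, hDn⟩ := fam.exists_normal X (fun i => i.2)
    (fun i P A B c => by
      obtain ⟨F, _, _, hFc⟩ := hF (mem i.1)
      exact (hXi i).trans (word_center_conj
        (case_one_kill c ((mem i.1).mem P) (((mem i.1).mem P).facts F hFc))))
    (fun i P W A H C hW c => by
      obtain ⟨F, _, _, hFc⟩ := hF (mem i.1)
      exact (hXi i).trans (word_center_conj (case_two_kill c ((mem i.1).mem P) F hFc)))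
    (fun i h0 => by
      obtain ⟨F, _, _, hFc⟩ := hF (mem i.1)
      have hf := ((mem i.1).mem (mem i.1).P).facts F hFc
      by_cases hq : p ^ (mem i.1).n = 2
      · rw [inf_eq_right.2 (hXp i.1 hq i.2), commutator_eq_bot_iff_le_centralizer] at h0
        exact not_le_pCore ((mem i.1).mem (mem i.1).P).hyp
          (((le_inf le_rfl (le_centralizer_iff.1 h0)).trans hf.centralizer_le).trans
            ((mem i.1).mem (mem i.1).P).hyp.pCore_le)
      · refine i.2 (hmeet _ ?_ _ ((hXi i).trans inf_le_left) ?_ (by rwa [commutator_comm]))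
        · have h2 : 2 ≤ p ^ (mem i.1).n := by
            calc 2 ≤ p := hp.out.two_le
              _ = p ^ 1 := (pow_one p).symm
              _ ≤ _ := Nat.pow_le_pow_right hp.out.pos ((mem i.1).mem (mem i.1).P).hyp.pos
          omega
        · rw [(mem i.1).range]
          exact normalizer_le_of_char (mem i.1).inj X)
    (fun Y hYc hYz hY hne => by
      haveI := hYc
      refine inf_eq_left.1 ?_
      by_contra hne'
      refine hXmin (X ⊓ Y) ⟨hne, inferInstance, inf_le_left.trans hXle, fun x hq hn => ?_⟩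
        (lt_of_le_of_ne inf_le_left hne')
      have hX' : ¬ X.map (mem x).τ ≤ center (mem x).G := fun h => hn ((Subgroup.map_mono inf_le_left).trans h)
      rw [Subgroup.map_inf _ _ _ (mem x).inj]
      exact le_inf (hXp x hq hX') (hY ⟨x, hX'⟩ fun h => hn ((Subgroup.map_mono inf_le_right).trans h)))
    (fun i => hmeas (mem i.1))
  let x : I := ⟨(X, D), hXc, hXne, hXz, hDc, hD⟩
  have hx : ¬ X.map (mem x).τ ≤ center (mem x).G := fun h => (hmem x).1 (normal_of_le_center h)
  exact (hmem x).2 (hDn ⟨x, hx⟩)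

end CfsgLib.LocalEven.PairUp
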